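import Mathlib

/-!
# The configuration of signed constituents
-/

set_option autoImplicit false

namespace CfsgLib.Blocks.DihedralBlock

open scoped Classical

variable {ι : Type*} [Fintype ι]

/-- Signed constituents of a family of vectors of norm three, the last one of norm four. -/
structure Config (t : ι) (a : ι → ℕ → ℤ) (d : ι → ℤ) (q : ℕ) : Prop where
  triv : ∀ j, 0 < j → j ≤ q → a t j = 1
  inner : ∀ i j, 0 < i → i ≤ q → 0 < j → j ≤ q →
    ∑ x, a x i * a x j = 2 + (if i = j then 1 else 0) + if i + j = 2 * q then 1 else 0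
  deg : ∀ j, 0 < j → j ≤ q → ∑ x, a x j * d x = 0
  pos : ∀ x, 0 < d x
  deg_one : d t = 1
  two_le : 2 ≤ q
  case : q = 2 ∨ 4 ≤ q

variable {t : ι} {a : ι → ℕ → ℤ} {d : ι → ℤ} {q : ℕ}

/-- The constituents other than `t`. -/
noncomputable def support (t : ι) (a : ι → ℕ → ℤ) (j : ℕ) : Finset ι :=
  Finset.univ.filter fun x => x ≠ t ∧ a x j ≠ 0

theorem mem_support {j : ℕ} {x : ι} : x ∈ support t a j ↔ x ≠ t ∧ a x j ≠ 0 := by simp [support]

variable (h : Config t a d q)
include h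

theorem sum_sq {j : ℕ} (hj0 : 0 < j) (hj : j ≤ q) :
    ∑ x ∈ support t a j, a x j * a x j = if j = q then 3 else 2 := by
  have h1 := h.inner j j hj0 hj hj0 hj
  rw [← Finset.add_sum_erase _ _ (Finset.mem_univ t), h.triv j hj0 hj, if_pos rfl] at h1
  have h2 : ∑ x ∈ support t a j, a x j * a x j = ∑ x ∈ Finset.univ.erase t, a x j * a x j := by
    refine Finset.sum_subset (fun x hx => Finset.mem_erase.2 ⟨(mem_support.1 hx).1, Finset.mem_univ x⟩)
      fun x hx hx' => ?_
    have : a x j = 0 := by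
      by_contra hne
      exact hx' (mem_support.2 ⟨(Finset.mem_erase.1 hx).1, hne⟩)
    rw [this, zero_mul]
  rw [h2]
  by_cases hq : j = q
  · rw [if_pos hq]; rw [if_pos (by omega)] at h1; linarith
  · rw [if_neg hq]; rw [if_neg (by omega)] at h1; linarith

theorem apply_eq {j : ℕ} (hj0 : 0 < j) (hj : j ≤ q) {x : ι} (hx : x ∈ support t a j) :
    a x j = 1 ∨ a x j = -1 := by
  have h1 := sum_sq h hj0 hj
  have h2 := Finset.single_le_sum (f := fun x => a x j * a x j) (fun w _ => mul_self_nonneg _) hx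
  rw [h1] at h2
  have h3 : a x j * a x j ≤ 3 := le_trans h2 (by split_ifs <;> norm_num)
  have := (mem_support.1 hx).2
  have : -2 < a x j := by nlinarith
  have : a x j < 2 := by nlinarith
  omega

theorem card_support {j : ℕ} (hj0 : 0 < j) (hj : j ≤ q) :
    (support t a j).card = if j = q then 3 else 2 := by
  have h1 := sum_sq h hj0 hj
  rw [Finset.sum_congr rfl fun x hx => show a x j * a x j = 1 by
    rcases apply_eq h hj0 hj hx with e | e <;> rw [e] <;> norm_num] at h1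
  simp only [Finset.sum_const, nsmul_eq_mul, mul_one] at h1
  split_ifs at h1 ⊢ <;> exact_mod_cast h1

theorem sum_deg {j : ℕ} (hj0 : 0 < j) (hj : j ≤ q) :
    ∑ x ∈ support t a j, a x j * d x = -1 := by
  have h1 := h.deg j hj0 hj
  rw [← Finset.add_sum_erase _ _ (Finset.mem_univ t), h.triv j hj0 hj, h.deg_one] at h1
  have h2 : ∑ x ∈ support t a j, a x j * d x = ∑ x ∈ Finset.univ.erase t, a x j * d x := by
    refine Finset.sum_subset (fun x hx => Finset.mem_erase.2 ⟨(mem_support.1 hx).1, Finset.mem_univ x⟩)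
      fun x hx hx' => ?_
    have : a x j = 0 := by
      by_contra hne
      exact hx' (mem_support.2 ⟨(Finset.mem_erase.1 hx).1, hne⟩)
    rw [this, zero_mul]
  rw [h2]
  linarith

theorem exists_pair {j : ℕ} (hj0 : 0 < j) (hj : j < q) :
    ∃ u v, u ≠ t ∧ v ≠ t ∧ u ≠ v ∧ a u j = 1 ∧ a v j = -1 ∧
      ∀ x, x ≠ t → x ≠ u → x ≠ v → a x j = 0 := by
  have h1 := card_support h hj0 hj.le
  rw [if_neg hj.ne, Finset.card_eq_two] at h1
  obtain ⟨u, v, huv, he⟩ := h1
  have hu := mem_support.1 (show u ∈ support t a j by rw [he]; simp)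
  have hv := mem_support.1 (show v ∈ support t a j by rw [he]; simp)
  have hd := sum_deg h hj0 hj.le
  rw [he, Finset.sum_pair huv] at hd
  have hpu := h.pos u
  have hpv := h.pos v
  have hz : ∀ x, x ≠ t → x ≠ u → x ≠ v → a x j = 0 := fun x hx h1 h2 => by
    by_contra hne
    have : x ∈ support t a j := mem_support.2 ⟨hx, hne⟩
    rw [he] at this
    simp [h1, h2] at this
  rcases apply_eq h hj0 hj.le (show u ∈ support t a j by rw [he]; simp) with eu | eu <;>
    rcases apply_eq h hj0 hj.le (show v ∈ support t a j by rw [he]; simp) with ev | ev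
  · rw [eu, ev] at hd; omega
  · exact ⟨u, v, hu.1, hv.1, huv, eu, ev, hz⟩
  · exact ⟨v, u, hv.1, hu.1, huv.symm, ev, eu, fun x hx h1 h2 => hz x hx h2 h1⟩
  · rw [eu, ev] at hd; omega

/-- The configuration. -/
theorem exists_config :
    ∃ (x₁ x₂ x₃ : ι) (b : ℕ → ι) (δ₁ δ₂ δ₃ : ℤ), (δ₁ = 1 ∨ δ₁ = -1) ∧ (δ₂ = 1 ∨ δ₂ = -1) ∧
      (δ₃ = 1 ∨ δ₃ = -1) ∧ x₁ ≠ t ∧ x₂ ≠ t ∧ x₃ ≠ t ∧ x₁ ≠ x₂ ∧ x₁ ≠ x₃ ∧ x₂ ≠ x₃ ∧
      (∀ j, 0 < j → j < q → b j ≠ t ∧ b j ≠ x₁ ∧ b j ≠ x₂ ∧ b j ≠ x₃) ∧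
      (∀ i j, 0 < i → i < q → 0 < j → j < q → b i = b j → i = j) ∧
      (∀ x j, 0 < j → j < q → a x j = (if x = t then 1 else 0) + δ₁ * (if x = x₁ then 1 else 0) -
        δ₁ * (if x = b j then 1 else 0)) ∧
      ∀ x, a x q = (if x = t then 1 else 0) + δ₁ * (if x = x₁ then 1 else 0) +
        δ₂ * (if x = x₂ then 1 else 0) + δ₃ * (if x = x₃ then 1 else 0) := by
  have hq2 := h.two_le
  have : Nonempty ι := ⟨t⟩
  choose! U V hUt hVt hUV hU hV hZ using fun j (hj : 0 < j ∧ j < q) => exists_pair h hj.1 hj.2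
  have hval : ∀ j, 0 < j ∧ j < q → ∀ x, a x j =
      (if x = t then 1 else 0) + (if x = U j then 1 else 0) - (if x = V j then 1 else 0) := by
    intro j hj x
    by_cases h1 : x = t
    · subst h1
      rw [h.triv j hj.1 hj.2.le, if_pos rfl, if_neg (hUt j hj).symm, if_neg (hVt j hj).symm]
      norm_num
    by_cases h2 : x = U j
    · subst h2
      rw [hU j hj, if_neg (hUt j hj), if_pos rfl, if_neg (hUV j hj)]
      norm_num
    by_cases h3 : x = V j
    · subst h3
      rw [hV j hj, if_neg (hVt j hj), if_neg (hUV j hj).symm, if_pos rfl]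
      norm_num
    rw [hZ j hj x h1 h2 h3, if_neg h1, if_neg h2, if_neg h3]
    norm_num
  have hsum : ∀ j, 0 < j ∧ j < q → ∀ F : ι → ℤ,
      ∑ x, a x j * F x = F t + F (U j) - F (V j) := by
    intro j hj F
    simp [hval j hj, add_mul, sub_mul, Finset.sum_add_distrib, Finset.sum_sub_distrib]
  -- two of the short vectors share exactly one constituent, with the same sign
  have hpair : ∀ i j, 0 < i ∧ i < q → 0 < j ∧ j < q → i ≠ j →
      (U i = U j ∧ V i ≠ V j) ∨ (U i ≠ U j ∧ V i = V j) := by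
    intro i j hi hj hne
    have h1 := h.inner i j hi.1 hi.2.le hj.1 hj.2.le
    rw [hsum i hi, if_neg hne, if_neg (by omega), hval j hj t, hval j hj (U i), hval j hj (V i),
      if_neg (hUt i hi), if_neg (hVt i hi), if_neg (hUt j hj).symm, if_neg (hVt j hj).symm] at h1
    by_cases e1 : U i = U j <;> by_cases e2 : V i = V j
    · simp [e1, e2, hUV j hj, (hUV j hj).symm] at h1
    · exact Or.inl ⟨e1, e2⟩
    · exact Or.inr ⟨e1, e2⟩
    · simp only [if_neg e1, if_neg e2] at h1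
      split_ifs at h1 <;> omega
  have h1q : (0 < 1 ∧ 1 < q) := ⟨one_pos, by omega⟩
  have hlast : ∀ j, 0 < j ∧ j < q → a (U j) q - a (V j) q = 1 := by
    intro j hj
    have h1 := h.inner j q hj.1 hj.2.le (by omega) le_rfl
    rw [hsum j hj, h.triv q (by omega) le_rfl, if_neg hj.2.ne, if_neg (by omega)] at h1
    linarith
  have hq' : ∀ x, x ≠ t → a x q = 0 ∨ a x q = 1 ∨ a x q = -1 := fun x hx => by
    by_cases h0 : a x q = 0
    · exact Or.inl h0
    · exact Or.inr (apply_eq h (by omega) le_rfl (mem_support.2 ⟨hx, h0⟩))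
  -- no three short vectors meet the long one with the same sign
  have hthree : ∀ (B : ℕ → ι) (ε : ℤ), 4 ≤ q → (∀ j, 0 < j ∧ j < q → B j ≠ t ∧ a (B j) q = ε) →
      (∀ i j, 0 < i ∧ i < q → 0 < j ∧ j < q → i ≠ j → B i ≠ B j) → ε ≠ 0 → False := by
    intro B ε hq4 hB hinj hε
    have hm : ∀ j, 0 < j ∧ j < q → B j ∈ support t a q := fun j hj =>
      mem_support.2 ⟨(hB j hj).1, by rw [(hB j hj).2]; exact hε⟩
    have hk : ∀ j, 0 < j → j ≤ 3 → 0 < j ∧ j < q := fun j h0 h3 => ⟨h0, by omega⟩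
    have h12 := hinj 1 2 (hk 1 (by omega) (by omega)) (hk 2 (by omega) (by omega)) (by omega)
    have h13 := hinj 1 3 (hk 1 (by omega) (by omega)) (hk 3 (by omega) le_rfl) (by omega)
    have h23 := hinj 2 3 (hk 2 (by omega) (by omega)) (hk 3 (by omega) le_rfl) (by omega)
    have he : support t a q = {B 1, B 2, B 3} := by
      refine (Finset.eq_of_subset_of_card_le ?_ ?_).symm
      · intro x hx
        simp only [Finset.mem_insert, Finset.mem_singleton] at hx
        rcases hx with rfl | rfl | rfl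
        exacts [hm 1 (hk 1 (by omega) (by omega)), hm 2 (hk 2 (by omega) (by omega)),
          hm 3 (hk 3 (by omega) le_rfl)]
      · rw [card_support h (by omega) le_rfl, if_pos rfl,
          Finset.card_insert_of_notMem (by simp [h12, h13]), Finset.card_pair h23]
    have hd := sum_deg h (j := q) (by omega) le_rfl
    rw [he, Finset.sum_insert (by simp [h12, h13]), Finset.sum_pair h23,
      (hB 1 (hk 1 (by omega) (by omega))).2, (hB 2 (hk 2 (by omega) (by omega))).2,
      (hB 3 (hk 3 (by omega) le_rfl)).2] at hd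
    have := h.pos (B 1)
    have := h.pos (B 2)
    have := h.pos (B 3)
    rcases hq' (B 1) (hB 1 (hk 1 (by omega) (by omega))).1 with e | e | e <;>
      rw [(hB 1 (hk 1 (by omega) (by omega))).2] at e
    · exact hε e
    · subst e; linarith
    · subst e; linarith
  -- the centre and its sign
  obtain ⟨x₁, b, δ₁, hδ₁, hx₁t, hb, hinj, hform, hx₁q⟩ : ∃ (x₁ : ι) (b : ℕ → ι) (δ₁ : ℤ),
      (δ₁ = 1 ∨ δ₁ = -1) ∧ x₁ ≠ t ∧
      (∀ j, 0 < j → j < q → b j ≠ t ∧ b j ≠ x₁ ∧ a (b j) q = 0) ∧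
      (∀ i j, 0 < i → i < q → 0 < j → j < q → b i = b j → i = j) ∧
      (∀ x j, 0 < j → j < q → a x j = (if x = t then 1 else 0) +
        δ₁ * (if x = x₁ then 1 else 0) - δ₁ * (if x = b j then 1 else 0)) ∧ a x₁ q = δ₁ := by
    have hUfix : (∀ j, 0 < j ∧ j < q → U j = U 1) → (4 ≤ q ∨ a (U 1) q = 1) →
        a (U 1) q = 1 := by
      intro hall hor
      rcases hor with hq4 | e
      swap
      · exact e
      by_contra hne
      have h0 : ∀ j, 0 < j ∧ j < q → a (U 1) q = 0 ∧ a (V j) q = -1 := fun j hj => by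
        have h1 := hlast j hj
        rw [hall j hj] at h1
        rcases hq' _ (hUt 1 h1q) with e | e | e <;> rcases hq' _ (hVt j hj) with e' | e' | e' <;>
          omega
      exact hthree V (-1) hq4 (fun j hj => ⟨hVt j hj, (h0 j hj).2⟩)
        (fun i j hi hj hne' e => by
          rcases hpair i j hi hj hne' with ⟨-, e2⟩ | ⟨e1, -⟩
          · exact e2 e
          · exact e1 ((hall i hi).trans (hall j hj).symm)) (by norm_num)
    have hVfix : (∀ j, 0 < j ∧ j < q → V j = V 1) → (4 ≤ q ∨ a (V 1) q = -1) →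
        a (V 1) q = -1 := by
      intro hall hor
      rcases hor with hq4 | e
      swap
      · exact e
      by_contra hne
      have h0 : ∀ j, 0 < j ∧ j < q → a (V 1) q = 0 ∧ a (U j) q = 1 := fun j hj => by
        have h1 := hlast j hj
        rw [hall j hj] at h1
        rcases hq' _ (hVt 1 h1q) with e | e | e <;> rcases hq' _ (hUt j hj) with e' | e' | e' <;>
          omega
      exact hthree U 1 hq4 (fun j hj => ⟨hUt j hj, (h0 j hj).2⟩)
        (fun i j hi hj hne' e => by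
          rcases hpair i j hi hj hne' with ⟨-, e2⟩ | ⟨e1, -⟩
          · exact e2 ((hall i hi).trans (hall j hj).symm)
          · exact e1 e) (by norm_num)
    obtain ⟨hall, hc⟩ | ⟨hall, hc⟩ :
        ((∀ j, 0 < j ∧ j < q → U j = U 1) ∧ a (U 1) q = 1) ∨
        ((∀ j, 0 < j ∧ j < q → V j = V 1) ∧ a (V 1) q = -1) := by
      rcases h.case with hq | hq4
      · have hj : ∀ j, 0 < j ∧ j < q → j = 1 := fun j hj => by omega
        have h1 := hlast 1 h1q
        rcases hq' _ (hUt 1 h1q) with e | e | e <;> rcases hq' _ (hVt 1 h1q) with e' | e' | e' <;>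
          try omega
        · exact Or.inr ⟨fun j hj' => by rw [hj j hj'], e'⟩
        · exact Or.inl ⟨fun j hj' => by rw [hj j hj'], e⟩
      · have h2q : 0 < 2 ∧ 2 < q := ⟨two_pos, by omega⟩
        rcases hpair 1 2 h1q h2q (by omega) with ⟨e1, e2⟩ | ⟨e1, e2⟩
        · have hall : ∀ j, 0 < j ∧ j < q → U j = U 1 := fun j hj => by
            by_contra hne
            have hj1 : j ≠ 1 := fun e => hne (by rw [e])
            have hj2 : j ≠ 2 := fun e => hne (by rw [e, e1])
            obtain ⟨a1, -⟩ | ⟨-, a1⟩ := hpair j 1 hj h1q hj1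
            · exact hne a1
            obtain ⟨a2, -⟩ | ⟨-, a2⟩ := hpair j 2 hj h2q hj2
            · exact hne (a2.trans e1.symm)
            exact e2 (a1.symm.trans a2)
          exact Or.inl ⟨hall, hUfix hall (Or.inl hq4)⟩
        · have hall : ∀ j, 0 < j ∧ j < q → V j = V 1 := fun j hj => by
            by_contra hne
            have hj1 : j ≠ 1 := fun e => hne (by rw [e])
            have hj2 : j ≠ 2 := fun e => hne (by rw [e, e2])
            obtain ⟨-, a1⟩ | ⟨a1, -⟩ := (hpair j 1 hj h1q hj1).symm.imp id id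
            · exact hne a1
            obtain ⟨-, a2⟩ | ⟨a2, -⟩ := (hpair j 2 hj h2q hj2).symm.imp id id
            · exact hne (a2.trans e2.symm)
            exact e1 (a1.symm.trans a2)
          exact Or.inr ⟨hall, hVfix hall (Or.inl hq4)⟩
    · refine ⟨U 1, V, 1, Or.inl rfl, hUt 1 h1q, fun j h0 hj => ?_, fun i j hi0 hi hj0 hj e => ?_,
        fun x j h0 hj => ?_, hc⟩
      · have h1 := hlast j ⟨h0, hj⟩
        rw [hall j ⟨h0, hj⟩, hc] at h1
        exact ⟨hVt j ⟨h0, hj⟩, fun e => hUV j ⟨h0, hj⟩ ((hall j ⟨h0, hj⟩).trans e.symm), by linarith⟩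
      · by_contra hne
        rcases hpair i j ⟨hi0, hi⟩ ⟨hj0, hj⟩ hne with ⟨-, e2⟩ | ⟨e1, -⟩
        · exact e2 e
        · exact e1 ((hall i ⟨hi0, hi⟩).trans (hall j ⟨hj0, hj⟩).symm)
      · rw [hval j ⟨h0, hj⟩ x, hall j ⟨h0, hj⟩, one_mul, one_mul]
    · refine ⟨V 1, U, -1, Or.inr rfl, hVt 1 h1q, fun j h0 hj => ?_, fun i j hi0 hi hj0 hj e => ?_,
        fun x j h0 hj => ?_, hc⟩
      · have h1 := hlast j ⟨h0, hj⟩
        rw [hall j ⟨h0, hj⟩, hc] at h1
        exact ⟨hUt j ⟨h0, hj⟩, fun e => hUV j ⟨h0, hj⟩ (e.trans (hall j ⟨h0, hj⟩).symm), by linarith⟩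
      · by_contra hne
        rcases hpair i j ⟨hi0, hi⟩ ⟨hj0, hj⟩ hne with ⟨-, e2⟩ | ⟨e1, -⟩
        · exact e2 ((hall i ⟨hi0, hi⟩).trans (hall j ⟨hj0, hj⟩).symm)
        · exact e1 e
      · rw [hval j ⟨h0, hj⟩ x, hall j ⟨h0, hj⟩]
        ring
  -- the long vector
  have hδ0 : δ₁ ≠ 0 := by omega
  have hS1 : x₁ ∈ support t a q := mem_support.2 ⟨hx₁t, by rw [hx₁q]; exact hδ0⟩
  have hc2 : ((support t a q).erase x₁).card = 2 := by
    rw [Finset.card_erase_of_mem hS1, card_support h (by omega) le_rfl, if_pos rfl]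
  obtain ⟨x₂, x₃, h23, he⟩ := Finset.card_eq_two.1 hc2
  have hx₂ : x₂ ∈ (support t a q).erase x₁ := by rw [he]; simp
  have hx₃ : x₃ ∈ (support t a q).erase x₁ := by rw [he]; simp
  rw [Finset.mem_erase] at hx₂ hx₃
  refine ⟨x₁, x₂, x₃, b, δ₁, a x₂ q, a x₃ q, hδ₁, apply_eq h (by omega) le_rfl hx₂.2,
    apply_eq h (by omega) le_rfl hx₃.2, hx₁t, (mem_support.1 hx₂.2).1, (mem_support.1 hx₃.2).1,
    hx₂.1.symm, hx₃.1.symm, h23, fun j h0 hj => ?_, hinj, hform, fun x => ?_⟩
  · obtain ⟨h1, h2, h3⟩ := hb j h0 hj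
    exact ⟨h1, h2, fun e => (mem_support.1 hx₂.2).2 (e ▸ h3), fun e => (mem_support.1 hx₃.2).2 (e ▸ h3)⟩
  · by_cases h1 : x = t
    · subst h1
      simp [h.triv q (by omega) le_rfl, hx₁t.symm, (mem_support.1 hx₂.2).1.symm,
        (mem_support.1 hx₃.2).1.symm]
    by_cases h2 : x = x₁
    · subst h2
      simp [hx₁q, h1, hx₂.1.symm, hx₃.1.symm]
    by_cases h3 : x = x₂
    · subst h3
      simp [h1, h2, h23]
    by_cases h4 : x = x₃
    · subst h4
      simp [h1, h2, h3]
    have h0 : a x q = 0 := by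
      by_contra hne
      have : x ∈ (support t a q).erase x₁ := Finset.mem_erase.2 ⟨h2, mem_support.2 ⟨h1, hne⟩⟩
      rw [he] at this
      simp [h3, h4] at this
    simp [h1, h2, h3, h4, h0]

end CfsgLib.Blocks.DihedralBlock
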