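import Cfsg.Agent.Lib.Blocks.DihedralBlock.Values
import Cfsg.Agent.Lib.Blocks.DihedralBlock.Combin

/-!
# The constituents of the induced characters and their values at the rotations
-/

set_option autoImplicit false
set_option linter.unusedSectionVars false

namespace CfsgLib.Blocks.DihedralBlock

open Cfsg CfsgLib CfsgLib.Char CfsgLib.Blocks.DihedralFormula
open scoped Classical ComplexConjugate

variable {G : Type*} [Group G] [Fintype G] {P : Sylow 2 G} {σ τ : G} {q : ℕ} {ζ : ℂ}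
  {K : Subgroup G} {l : K →* ℂˣ} {N : Subgroup G} (h : Rot P σ τ q ζ K l N)
  {M : Ideal AlgInt} [M.IsPrime] (hM : IsPModular 2 M)
include h hM

/-- The characters of the principal block met by the induced characters. -/
theorem exists_exceptional :
    ∃ (χ₁ χ₂ χ₃ : IrrCharacter G) (b : ℕ → IrrCharacter G) (δ₁ δ₂ δ₃ : ℤ),
      (δ₁ = 1 ∨ δ₁ = -1) ∧ (δ₂ = 1 ∨ δ₂ = -1) ∧ (δ₃ = 1 ∨ δ₃ = -1) ∧
      χ₁ ≠ trivChar G ∧ χ₂ ≠ trivChar G ∧ χ₃ ≠ trivChar G ∧ χ₁ ≠ χ₂ ∧ χ₁ ≠ χ₃ ∧ χ₂ ≠ χ₃ ∧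
      (∀ j, 0 < j → j < q → b j ≠ trivChar G ∧ b j ≠ χ₁ ∧ b j ≠ χ₂ ∧ b j ≠ χ₃) ∧
      (∀ i j, 0 < i → i < q → 0 < j → j < q → b i = b j → i = j) ∧
      (χ₁ ∈ principalBlock M G ∧ χ₂ ∈ principalBlock M G ∧ χ₃ ∈ principalBlock M G ∧
        ∀ j, 0 < j → j < q → b j ∈ principalBlock M G) ∧
      (∀ i, 0 < i → i < 2 * q → (χ₁ : G → ℂ) (σ ^ i) = δ₁ ∧
        (χ₂ : G → ℂ) (σ ^ i) = δ₂ * (-1) ^ (i + 1) ∧ (χ₃ : G → ℂ) (σ ^ i) = δ₃ * (-1) ^ (i + 1) ∧
        ∀ j, 0 < j → j < q →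
          (b j : G → ℂ) (σ ^ i) = δ₁ * (ζ ^ (j * i) + (ζ ^ (j * i))⁻¹)) ∧
      (∀ χ ∈ principalBlock M G, χ ≠ trivChar G → χ ≠ χ₁ → χ ≠ χ₂ → χ ≠ χ₃ →
        (∀ j, 0 < j → j < q → χ ≠ b j) → ∀ i, 0 < i → i < 2 * q → (χ : G → ℂ) (σ ^ i) = 0) ∧
      ∀ ρ : G, ¬ 2 ∣ orderOf ρ → ∀ j, 0 < j → j < q →
        1 + δ₁ * (χ₁ : G → ℂ) ρ = -δ₂ * (χ₂ : G → ℂ) ρ - δ₃ * (χ₃ : G → ℂ) ρ ∧
          1 + δ₁ * (χ₁ : G → ℂ) ρ = δ₁ * (b j : G → ℂ) ρ := by
  have := Fintype.ofFinite (IrrCharacter G)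
  have hq2 := h.two_le
  choose a ha using fun (χ : IrrCharacter G) (j : ℕ) =>
    IsGen.exists_classInner_eq_intCast (isGen_phi_pow h j) (IsGen.of_irr χ.2)
  have hexp : ∀ j g, Phi (l ^ j) g = ∑ χ : IrrCharacter G, (a χ j : ℂ) * (χ : G → ℂ) g := fun j g => by
    conv_lhs => rw [classFunction_eq_sum (IsGen.isClassFunction (isGen_phi_pow h j))]
    simp [Finset.sum_apply, ha]
  have hcfg : Config (trivChar G) a (fun χ : IrrCharacter G => (charDegree (χ : G → ℂ) : ℤ)) q := by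
    refine ⟨fun j h0 hj => ?_, fun i j hi0 hi hj0 hj => ?_, fun j _ _ => ?_,
      fun χ => by exact_mod_cast charDegree_pos χ, ?_, hq2, ?_⟩
    · have := ha (trivChar G) j
      rw [classInner_phi_triv h h0 (by omega)] at this
      exact_mod_cast this.symm
    · have e := classInner_phi_phi h hi0 hi hj0 hj
      have e2 : classInner (Phi (l ^ i)) (Phi (l ^ j)) =
          ((∑ χ : IrrCharacter G, a χ i * a χ j : ℤ) : ℂ) := by
        conv_lhs => rw [classFunction_eq_sum (IsGen.isClassFunction (isGen_phi_pow h j))]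
        simp [classInner_sum_right, classInner_smul_right, ha, mul_comm]
      rw [e2] at e
      exact_mod_cast e
    · have e := hexp j 1
      rw [phi_pow_one h] at e
      simp only [apply_one_eq_charDegree] at e
      exact_mod_cast e.symm
    · have := apply_one_eq_charDegree (trivChar G)
      rw [trivChar_apply] at this
      exact_mod_cast this.symm
    · obtain ⟨e, rfl⟩ := h.pow_two'
      rcases e with _ | _ | e
      · norm_num at hq2
      · exact Or.inl rfl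
      · exact Or.inr (le_trans (le_of_eq (by norm_num : 4 = 2 ^ 2))
          (Nat.pow_le_pow_right two_pos (by omega)))
  obtain ⟨x₁, x₂, x₃, b, δ₁, δ₂, δ₃, hδ₁, hδ₂, hδ₃, h1t, h2t, h3t, h12, h13, h23, hb, hinj, hlow,
    htop⟩ := exists_config hcfg
  have hA : ∀ χ ∈ principalBlock M G, ∀ j, coefA σ q ζ (χ : G → ℂ) j = (a χ j : ℂ) := fun χ hχ j => by
    rw [← ha χ j, classInner_phi h hM χ j, if_pos hχ]
  have hB : ∀ χ j, a χ j ≠ 0 → χ ∈ principalBlock M G := fun χ j hne => by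
    by_contra hχ
    have := ha χ j
    rw [classInner_phi h hM χ j, if_neg hχ] at this
    exact hne (by exact_mod_cast this.symm)
  have hsym : ∀ χ j, j ≤ 2 * q → a χ (2 * q - j) = a χ j := fun χ j hj => by
    have e := ha χ (2 * q - j)
    rw [phi_symm h hj, ha χ j] at e
    exact_mod_cast e.symm
  have hzero : ∀ χ, a χ 0 = 0 := fun χ => by
    have e := ha χ 0
    rw [classInner_phi h hM χ 0] at e
    split_ifs at e
    · simp only [coefA, pow_zero, sub_self, zero_mul, Finset.sum_const_zero,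
        mul_zero] at e
      exact_mod_cast e.symm
    · exact_mod_cast e.symm
  have hq1 : 0 < 1 ∧ 1 < q := ⟨one_pos, by omega⟩
  have h1B : x₁ ∈ principalBlock M G := hB x₁ q (by
    rw [htop, if_neg h1t, if_pos rfl, if_neg h12, if_neg h13]; omega)
  have h2B : x₂ ∈ principalBlock M G := hB x₂ q (by
    rw [htop, if_neg h2t, if_neg h12.symm, if_pos rfl, if_neg h23]; omega)
  have h3B : x₃ ∈ principalBlock M G := hB x₃ q (by
    rw [htop, if_neg h3t, if_neg h13.symm, if_neg h23.symm, if_pos rfl]; omega)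
  have hbB : ∀ j, 0 < j → j < q → b j ∈ principalBlock M G := fun j h0 hj => hB (b j) j (by
    rw [hlow _ j h0 hj, if_neg (hb j h0 hj).1, if_neg (hb j h0 hj).2.1, if_pos rfl]; omega)
  -- the values
  have hsum : ∀ χ ∈ principalBlock M G, ∀ i, 0 < i → i < 2 * q →
      (χ : G → ℂ) (σ ^ i) = -∑ j ∈ Finset.range (2 * q), (a χ j : ℂ) * (ζ⁻¹ ^ i) ^ j := by
    intro χ hχ i hi0 hi
    rw [apply_eq_neg_sum h (χ : G → ℂ) hi0 hi]
    simp only [hA χ hχ, ← pow_mul]
  have hζ0 : ζ ≠ 0 := h.prim.ne_zero (by omega)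
  have hw : ∀ i, (ζ⁻¹ ^ i) ^ (2 * q) = 1 := fun i => by
    rw [← pow_mul, mul_comm, pow_mul, inv_pow, h.prim.pow_eq_one, inv_one, one_pow]
  have hhalf : ∀ i, (ζ⁻¹ ^ i) ^ q = (-1 : ℂ) ^ i := fun i => by
    rw [← pow_mul, mul_comm, pow_mul, inv_pow,
      (h.prim.pow (by omega) (mul_comm 2 q) : IsPrimitiveRoot (ζ ^ q) 2).eq_neg_one_of_two_right]
    norm_num
  -- the coefficient at any index
  have hall : ∀ χ j, 0 < j → j < 2 * q → j ≠ q → ∃ m, 0 < m ∧ m < q ∧ (j = m ∨ j = 2 * q - m) ∧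
      a χ j = a χ m := by
    intro χ j h0 hj hne
    rcases lt_or_gt_of_ne hne with hlt | hgt
    · exact ⟨j, h0, hlt, Or.inl rfl, rfl⟩
    · exact ⟨2 * q - j, by omega, by omega, Or.inr (by omega), (hsym χ j hj.le).symm⟩
  refine ⟨x₁, x₂, x₃, b, δ₁, δ₂, δ₃, hδ₁, hδ₂, hδ₃, h1t, h2t, h3t, h12, h13, h23, hb, hinj,
    ⟨h1B, h2B, h3B, hbB⟩, fun i hi0 hi => ?_, fun χ hχ n0 n1 n2 n3 nb i hi0 hi => ?_,
    fun ρ hρ j h0 hj => ?_⟩
  · have hone : ∀ {x : IrrCharacter G} {δ : ℤ}, x ∈ principalBlock M G → a x q = δ →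
        (∀ m, 0 < m → m < q → a x m = 0) → (x : G → ℂ) (σ ^ i) = δ * (-1) ^ (i + 1) := by
      intro x δ hx hxq hxm
      rw [hsum x hx i hi0 hi, Finset.sum_eq_single_of_mem q (Finset.mem_range.2 (by omega)) ?_,
        hxq, hhalf, pow_succ]
      · ring
      · intro j hj hne
        rw [Finset.mem_range] at hj
        rcases Nat.eq_zero_or_pos j with rfl | h0
        · rw [hzero, Int.cast_zero, zero_mul]
        · obtain ⟨m, hm0, hm, -, e⟩ := hall x j h0 hj hne
          rw [e, hxm m hm0 hm, Int.cast_zero, zero_mul]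
    refine ⟨?_, ?_, ?_, fun m hm0 hm => ?_⟩
    · have hc : ∀ j ∈ Finset.range (2 * q), (a x₁ j : ℂ) * (ζ⁻¹ ^ i) ^ j =
          (δ₁ : ℂ) * (ζ⁻¹ ^ i) ^ j - if j = 0 then (δ₁ : ℂ) else 0 := by
        intro j hj
        rw [Finset.mem_range] at hj
        rcases Nat.eq_zero_or_pos j with rfl | h0
        · simp [hzero]
        · rw [if_neg h0.ne', sub_zero]
          congr 2
          by_cases hjq : j = q
          · rw [hjq, htop, if_neg h1t, if_pos rfl, if_neg h12, if_neg h13]; ring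
          · obtain ⟨m, hm0, hm, -, e⟩ := hall x₁ j h0 hj hjq
            rw [e, hlow _ m hm0 hm, if_neg h1t, if_pos rfl, if_neg (hb m hm0 hm).2.1.symm]; ring
      rw [hsum x₁ h1B i hi0 hi, Finset.sum_congr rfl hc, Finset.sum_sub_distrib, ← Finset.mul_sum,
        geom_root (hw i), if_neg (by rw [inv_pow, inv_eq_one]; exact zeta_pow_ne_one h hi0 hi),
        Finset.sum_ite_eq' (Finset.range (2 * q)) 0, if_pos (Finset.mem_range.2 (by omega))]
      ring
    · exact hone h2B (by rw [htop, if_neg h2t, if_neg h12.symm, if_pos rfl, if_neg h23]; ring)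
        fun m hm0 hm => by
          rw [hlow _ m hm0 hm, if_neg h2t, if_neg h12.symm, if_neg (hb m hm0 hm).2.2.1.symm]; ring
    · exact hone h3B (by rw [htop, if_neg h3t, if_neg h13.symm, if_neg h23.symm, if_pos rfl]; ring)
        fun m hm0 hm => by
          rw [hlow _ m hm0 hm, if_neg h3t, if_neg h13.symm, if_neg (hb m hm0 hm).2.2.2.symm]; ring
    · obtain ⟨b0, b1, b2, b3⟩ := hb m hm0 hm
      have hbm : a (b m) m = -δ₁ := by
        rw [hlow _ m hm0 hm, if_neg b0, if_neg b1, if_pos rfl]; ring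
      rw [hsum _ (hbB m hm0 hm) i hi0 hi,
        Finset.sum_eq_add_of_mem m (2 * q - m) (Finset.mem_range.2 (by omega))
          (Finset.mem_range.2 (by omega)) (by omega) ?_, hsym _ m (by omega), hbm]
      · rw [pow_sub₀ _ (pow_ne_zero _ (inv_ne_zero hζ0)) (by omega : m ≤ 2 * q), hw, one_mul,
          ← pow_mul, inv_pow, inv_inv, mul_comm i m]
        push_cast
        ring
      · rintro j hj ⟨hne1, hne2⟩
        rw [Finset.mem_range] at hj
        rcases Nat.eq_zero_or_pos j with rfl | h0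
        · rw [hzero, Int.cast_zero, zero_mul]
        by_cases hjq : j = q
        · rw [hjq, htop, if_neg b0, if_neg b1, if_neg b2, if_neg b3]; simp
        obtain ⟨m', hm'0, hm', hor, e⟩ := hall (b m) j h0 hj hjq
        rw [e, hlow _ m' hm'0 hm', if_neg b0, if_neg b1,
          if_neg fun e' => ?_]
        · simp
        · have := hinj m m' hm0 hm hm'0 hm' e'
          omega
  · rw [hsum χ hχ i hi0 hi, Finset.sum_eq_zero fun j hj => ?_, neg_zero]
    rw [Finset.mem_range] at hj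
    rcases Nat.eq_zero_or_pos j with rfl | h0
    · rw [hzero, Int.cast_zero, zero_mul]
    by_cases hjq : j = q
    · rw [hjq, htop, if_neg n0, if_neg n1, if_neg n2, if_neg n3]; simp
    obtain ⟨m, hm0, hm, -, e⟩ := hall χ j h0 hj hjq
    rw [e, hlow _ m hm0 hm, if_neg n0, if_neg n1, if_neg (nb m hm0 hm)]
    simp
  · have e1 := hexp j ρ
    have e2 := hexp q ρ
    rw [phi_odd h hρ] at e1 e2
    simp only [hlow _ j h0 hj, htop, Int.cast_add, Int.cast_sub, Int.cast_mul, Int.cast_ite,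
      Int.cast_one, Int.cast_zero, add_mul, sub_mul, Finset.sum_add_distrib, Finset.sum_sub_distrib,
      mul_assoc, ite_mul, one_mul, zero_mul, mul_ite, mul_zero, Finset.sum_ite_eq',
      Finset.mem_univ, if_true, trivChar_apply] at e1 e2
    constructor
    · linear_combination -e2
    · linear_combination -e1

end CfsgLib.Blocks.DihedralBlock
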