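import Cfsg.Agent.Lib.Blocks.DihedralBlock.Exceptional

/-!
# The principal 2-block of a group with dihedral Sylow 2-subgroups
-/

set_option autoImplicit false
set_option linter.unusedSectionVars false

namespace CfsgLib.Blocks.DihedralBlock

open Cfsg CfsgLib CfsgLib.Char CfsgLib.Blocks.DihedralFormula
open scoped Classical ComplexConjugate

variable {G : Type*} [Group G] [Fintype G]

/-- The value at an involution is congruent to the degree modulo two. -/
theorem exists_int_parity (χ : IrrCharacter G) {t : G} (ht : orderOf t = 2) :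
    ∃ k : ℤ, (χ : G → ℂ) t = (k : ℂ) ∧ 2 ∣ (charDegree (χ : G → ℂ) : ℤ) - k := by
  obtain ⟨χ, n, ρ, hρ, rfl⟩ := χ
  obtain ⟨b, μ, -, hpow, -, hsum, -⟩ := CfsgLib.CharIntegral.exists_eigenbasis_apply ρ t
  have hμ : ∀ i, ∃ k : ℤ, (k = 1 ∨ k = -1) ∧ μ i = (k : ℂ) := fun i => by
    have h2 := hpow i
    rw [ht, pow_two, mul_self_eq_one_iff] at h2
    rcases h2 with h2 | h2
    · exact ⟨1, Or.inl rfl, by rw [h2, Int.cast_one]⟩
    · exact ⟨-1, Or.inr rfl, by rw [h2, Int.cast_neg, Int.cast_one]⟩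
  choose k hk1 hk using hμ
  refine ⟨∑ i, k i, ?_, ?_⟩
  · show ρ.character t = _
    rw [hsum, Int.cast_sum]
    exact Finset.sum_congr rfl fun i _ => hk i
  · rw [charDegree_eq (χ := ⟨ρ.character, n, ρ, hρ, rfl⟩) (n := Module.finrank ℂ (Fin n → ℂ))
      (Representation.char_one ρ)]
    have e : ((Module.finrank ℂ (Fin n → ℂ) : ℕ) : ℤ) - ∑ i, k i = ∑ i, (1 - k i) := by
      rw [Finset.sum_sub_distrib, Finset.sum_const, Finset.card_univ, Fintype.card_fin, nsmul_eq_mul,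
        mul_one]
    rw [e]
    refine Finset.dvd_sum fun i _ => ?_
    rcases hk1 i with e1 | e1 <;> rw [e1] <;> norm_num

/-- A character vanishing on the nontrivial elements of a subgroup has degree divisible by its
order. -/
theorem card_dvd_charDegree (H : Subgroup G) (χ : IrrCharacter G)
    (h0 : ∀ g ∈ H, g ≠ 1 → (χ : G → ℂ) g = 0) : Nat.card H ∣ charDegree (χ : G → ℂ) := by
  obtain ⟨k, hk⟩ := IsChar.classInner_eq_natCast
    (IsChar.comp H.subtype (IsIrr.isCharacter χ.2)) (IsIrr.isCharacter (trivChar H).2)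
  refine ⟨k, ?_⟩
  have e : ∑ x : H, (χ : G → ℂ) (x : G) = (charDegree (χ : G → ℂ) : ℂ) := by
    rw [Finset.sum_eq_single (1 : H), OneMemClass.coe_one, apply_one_eq_charDegree]
    · exact fun x _ hx => h0 _ x.2 fun e => hx (Subtype.ext e)
    · exact fun hx => absurd (Finset.mem_univ _) hx
  simp only [classInner, Subgroup.coe_subtype, trivChar_apply, map_one, mul_one, e] at hk
  have hc : (Nat.card H : ℂ) ≠ 0 := Nat.cast_ne_zero.2 Nat.card_pos.ne'
  rw [inv_mul_eq_iff_eq_mul₀ hc] at hk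
  exact_mod_cast hk

/-- Elements of odd order lie in a normal subgroup of two-power index. -/
theorem mem_of_odd {C : Type*} [Group C] [Finite C] (N : Subgroup C) [N.Normal] {k : ℕ}
    (hk : N.index = 2 ^ k) {v : C} (hv : ¬ 2 ∣ orderOf v) : v ∈ N := by
  have h1 : orderOf (QuotientGroup.mk' N v) ∣ 2 ^ k := by
    have := orderOf_dvd_natCard (QuotientGroup.mk' N v)
    rwa [← Subgroup.index_eq_card, hk] at this
  exact (QuotientGroup.eq_one_iff v).1 (orderOf_eq_one_iff.1 (Nat.eq_one_of_dvd_coprimes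
    (((Nat.Prime.coprime_iff_not_dvd Nat.prime_two).2 hv).pow_left k) h1 (orderOf_map_dvd (QuotientGroup.mk' N) v)))

variable {P : Sylow 2 G} {σ τ : G} {q : ℕ} {ζ : ℂ} {K : Subgroup G} {l : K →* ℂˣ} {N : Subgroup G}
  (h : Rot P σ τ q ζ K l N)
include h

theorem orderOf_z : orderOf (σ ^ q) = 2 := by
  have := h.two_le
  rw [orderOf_pow_of_dvd (by omega) (h.ord ▸ dvd_mul_left q 2), h.ord,
    Nat.mul_div_cancel _ (by omega)]

/-- An element of `P` is a power of `σ` below `2q` or an involution outside the rotations. -/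
theorem elt_cases {g : G} (hg : g ∈ (P : Subgroup G)) :
    (∃ i, i < 2 * q ∧ g = σ ^ i) ∨ ∃ i : ℤ, g = σ ^ i * τ ∧ orderOf g = 2 := by
  obtain ⟨i, hi | hi⟩ := h.elt g hg
  · left
    obtain ⟨j, hj⟩ : g ∈ Submonoid.powers σ := mem_powers_iff_mem_zpowers.2 ⟨i, hi.symm⟩
    refine ⟨j % orderOf σ, h.ord ▸ Nat.mod_lt _ (orderOf_pos σ), ?_⟩
    rw [pow_mod_orderOf]
    exact hj.symm
  · right
    have hττ : τ⁻¹ = τ := inv_eq_of_mul_eq_one_right h.τ_sq
    refine ⟨i, hi, orderOf_eq_prime ?_ fun e => h.notMem ?_⟩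
    · have e := conj_zpow_neg h.rel i
      rw [hττ] at e
      rw [hi, pow_two]
      calc σ ^ i * τ * (σ ^ i * τ) = σ ^ i * (τ * σ ^ i * τ) := by group
        _ = 1 := by rw [e, ← zpow_add, add_neg_cancel, zpow_zero]
    · rw [e] at hi
      exact ⟨-i, by show σ ^ (-i) = τ; rw [zpow_neg]; exact inv_eq_of_mul_eq_one_right hi.symm⟩

/-- The centralizer in `P` of a reflection has at most four elements. -/
theorem card_le_four {H : Subgroup G} (hH : H ≤ (P : Subgroup G)) {i : ℤ}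
    (hc : ∀ g ∈ H, g * (σ ^ i * τ) = σ ^ i * τ * g) : Nat.card H ≤ 4 := by
  set w := σ ^ i * τ with hw
  have hzo := orderOf_z h
  have hzz : σ ^ q * σ ^ q = 1 := by rw [← pow_two, ← hzo, pow_orderOf_eq_one]
  have hz1 : σ ^ q ≠ 1 := fun e => by rw [e, orderOf_one] at hzo; norm_num at hzo
  have hww : w * w = 1 := by
    have e := conj_zpow_neg h.rel i
    rw [inv_eq_of_mul_eq_one_right h.τ_sq] at e
    calc σ ^ i * τ * (σ ^ i * τ) = σ ^ i * (τ * σ ^ i * τ) := by group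
      _ = 1 := by rw [e, ← zpow_add, add_neg_cancel, zpow_zero]
  have hrot : ∀ j : ℤ, σ ^ j * w = w * σ ^ j → σ ^ j = 1 ∨ σ ^ j = σ ^ q := by
    intro j hj
    have h2 : σ ^ j * σ ^ j = 1 := by
      have e : w * σ ^ j * w⁻¹ = σ ^ (-j) := by
        rw [hw, show σ ^ i * τ * σ ^ j * (σ ^ i * τ)⁻¹ = σ ^ i * (τ * σ ^ j * τ⁻¹) * (σ ^ i)⁻¹ by group,
          conj_zpow_neg h.rel]
        group
      rw [← hj, mul_inv_cancel_right, zpow_neg] at e
      exact mul_eq_one_iff_eq_inv.2 e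
    by_cases h1 : σ ^ j = 1
    · exact Or.inl h1
    · exact Or.inr (involution_eq (Subgroup.zpow_mem_zpowers σ j) (Subgroup.npow_mem_zpowers σ q)
        h2 hzz h1 hz1)
  have hsub : (H : Set G) ⊆ ↑({1, σ ^ q, w, σ ^ q * w} : Finset G) := by
    intro g hg
    have hcg : g * w = w * g := hc g hg
    simp only [Finset.coe_insert, Finset.coe_singleton, Set.mem_insert_iff, Set.mem_singleton_iff]
    obtain ⟨j, hj | hj⟩ := h.elt g (hH hg)
    · rcases hrot j (hj ▸ hcg) with e | e <;> rw [hj, e] <;> simp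
    · have e1 : g * w = σ ^ (j - i) := by
        have e := conj_zpow_neg h.rel i
        rw [inv_eq_of_mul_eq_one_right h.τ_sq] at e
        rw [hj, hw, show σ ^ j * τ * (σ ^ i * τ) = σ ^ j * (τ * σ ^ i * τ) by group, e, ← zpow_add,
          ← sub_eq_add_neg]
      have hg' : g = σ ^ (j - i) * w := by rw [← e1, mul_assoc, hww, mul_one]
      have hcc : σ ^ (j - i) * w = w * σ ^ (j - i) := by
        rw [← e1]
        calc g * w * w = w * g * w := by rw [hcg]
          _ = w * (g * w) := mul_assoc _ _ _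
      rcases hrot (j - i) hcc with e | e <;> rw [hg', e] <;> simp
  have h1 := Nat.card_mono (Finset.finite_toSet _) hsub
  have h2 : Nat.card (↑({1, σ ^ q, w, σ ^ q * w} : Finset G) : Set G) ≤ 4 := by
    rw [Nat.card_coe_set_eq, Set.ncard_coe_finset]
    exact Finset.card_le_four
  exact le_trans h1 h2

/-- The centralizer of an involution of `P` not fused to the central one. -/
theorem exists_small_complement {w : G} (_hw : w ∈ (P : Subgroup G)) (hwo : orderOf w = 2)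
    (hwz : ¬ IsConj w (σ ^ q)) :
    ∃ (N' : Subgroup (Subgroup.centralizer ({w} : Set G))) (_ : N'.Normal) (k : ℕ),
      ¬ 2 ∣ Nat.card N' ∧ N'.index = 2 ^ k ∧ 2 ^ k ≤ 4 := by
  have : Fact (Nat.Prime 2) := ⟨Nat.prime_two⟩
  obtain ⟨e, he⟩ := exists_pow h
  have hPd : Nonempty ((P : Subgroup G) ≃* DihedralGroup (2 * q)) := by
    let σP : (P : Subgroup G) := ⟨σ, h.memσ⟩
    let τP : (P : Subgroup G) := ⟨τ, h.memτ⟩
    have hmem : ∀ g : (P : Subgroup G), g ∈ Subgroup.zpowers σP ↔ (g : G) ∈ Subgroup.zpowers σ := by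
      intro g
      simp only [Subgroup.mem_zpowers_iff]
      exact exists_congr fun i => ⟨fun e => by rw [← e]; simp [σP], fun e => Subtype.ext (by simp [σP, e])⟩
    have hτH : τP ∉ Subgroup.zpowers σP := fun hh => h.notMem ((hmem τP).1 hh)
    have hidx : (Subgroup.zpowers σP).index = 2 := by
      refine Subgroup.index_eq_two_iff.2 ⟨τP, fun b => ?_⟩
      obtain ⟨i, hi | hi⟩ := h.elt b b.2
      · have hb : b ∈ Subgroup.zpowers σP := (hmem b).2 ⟨i, hi.symm⟩
        exact Or.inr ⟨hb, fun hm => hτH ((Subgroup.mul_mem_cancel_left _ hb).1 hm)⟩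
      · have hb : b * τP ∈ Subgroup.zpowers σP := (hmem _).2 ⟨i, by
          show σ ^ i = (b : G) * τ
          rw [hi, mul_assoc, h.τ_sq, mul_one]⟩
        exact Or.inl ⟨hb, fun hm => hτH ((Subgroup.mul_mem_cancel_left _ hm).1 hb)⟩
    have : NeZero (2 * q) := ⟨by have := h.two_le; omega⟩
    refine CfsgLib.TwoGroups.nonempty_mulEquiv_dihedralGroup (H := (P : Subgroup G)) (a := σP)
      (b := τP) (by rw [Subgroup.orderOf_mk, h.ord]) (Subtype.ext h.τ_sq) hτH (Subtype.ext h.rel) ?_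
    rw [← (Subgroup.zpowers σP).card_mul_index, hidx, Nat.card_zpowers, Subgroup.orderOf_mk, h.ord,
      mul_comm]
  obtain ⟨eD⟩ := hPd
  obtain ⟨mm, fD, hmm, -, hfD, hSD⟩ :=
    CfsgLib.TwoGroups.Dihedral.exists_model (by have := h.two_le; omega) eD
  have hcomp := CfsgLib.TwoGroups.Dihedral.centralizer_complement hfD hSD hmm hwo
  set C := Subgroup.centralizer ({w} : Set G) with hC
  set wC : C := ⟨w, Subgroup.mem_centralizer_singleton_iff.2 rfl⟩ with hwC
  obtain ⟨R, hR⟩ := (IsPGroup.of_card (n := 1) (by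
    rw [Nat.card_zpowers, hwC, Subgroup.orderOf_mk, hwo, pow_one]) :
      IsPGroup 2 (Subgroup.zpowers wC)).exists_le_sylow
  obtain ⟨N', hN', hNR⟩ := (CfsgLib.Transfer.exists_complement_iff R).2 hcomp
  have hidx : N'.index = Nat.card (R : Subgroup C) := by
    have h1 := hNR.card_mul_card
    rw [← N'.card_mul_index] at h1
    exact (Nat.eq_of_mul_eq_mul_left Nat.card_pos h1).symm
  have hodd : ¬ 2 ∣ Nat.card N' := by
    have h1 := hNR.card_mul_card
    rw [← (R : Subgroup C).card_mul_index, mul_comm] at h1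
    rw [Nat.eq_of_mul_eq_mul_left Nat.card_pos h1]
    exact R.not_dvd_index
  obtain ⟨k, hk⟩ := IsPGroup.iff_card.1 R.2
  refine ⟨N', hN', k, hodd, hidx.trans hk, ?_⟩
  rw [← hk]
  obtain ⟨Q, hQ⟩ := (R.2.map C.subtype).exists_le_sylow
  obtain ⟨c, hc⟩ := MulAction.exists_smul_eq G Q P
  have hconj : ∀ g ∈ (R : Subgroup C).map C.subtype, c * g * c⁻¹ ∈ (P : Subgroup G) := fun g hg => by
    rw [← hc, Sylow.coe_subgroup_smul]
    exact ⟨g, hQ hg, by simp⟩
  have hwR : w ∈ (R : Subgroup C).map C.subtype := ⟨wC, hR (Subgroup.mem_zpowers wC), rfl⟩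
  obtain ⟨i, hi⟩ : ∃ i : ℤ, c * w * c⁻¹ = σ ^ i * τ := by
    rcases elt_cases h (hconj w hwR) with ⟨i, hi, e⟩ | ⟨i, e, -⟩
    · exfalso
      have ho : orderOf (c * w * c⁻¹) = 2 := by
        rw [show c * w * c⁻¹ = MulAut.conj c w by simp, MulEquiv.orderOf_eq, hwo]
      refine hwz (isConj_iff.2 ⟨c, ?_⟩)
      rw [e] at ho ⊢
      have hzo := orderOf_z h
      refine involution_eq (Subgroup.npow_mem_zpowers σ i) (Subgroup.npow_mem_zpowers σ q)
        (by rw [← pow_two, ← ho, pow_orderOf_eq_one])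
        (by rw [← pow_two, ← hzo, pow_orderOf_eq_one])
        (fun e1 => by rw [e1, orderOf_one] at ho; norm_num at ho)
        (fun e1 => by rw [e1, orderOf_one] at hzo; norm_num at hzo)
    · exact ⟨i, e⟩
  set T := ((R : Subgroup C).map C.subtype).map (MulAut.conj c).toMonoidHom with hT
  have hcard : Nat.card T = Nat.card (R : Subgroup C) := by
    rw [hT, Subgroup.card_map_of_injective (MulAut.conj c).injective,
      Subgroup.card_map_of_injective C.subtype_injective]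
  rw [← hcard]
  refine card_le_four h (i := i) ?_ ?_
  · rintro _ ⟨g, hg, rfl⟩
    simpa using hconj g hg
  · rintro _ ⟨g, ⟨r, -, rfl⟩, rfl⟩
    have hr := Subgroup.mem_centralizer_singleton_iff.1 r.2
    rw [← hi]
    show c * (r : G) * c⁻¹ * (c * w * c⁻¹) = c * w * c⁻¹ * (c * (r : G) * c⁻¹)
    rw [show c * (r : G) * c⁻¹ * (c * w * c⁻¹) = c * ((r : G) * w) * c⁻¹ by group, hr]
    group

variable {M : Ideal AlgInt} [M.IsPrime] (hM : IsPModular 2 M)
include hM

/-- The principal block. -/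
theorem principalBlock_dihedral :
    ∃ (χ₁ χ₂ χ₃ : IrrCharacter G) (b : ℕ → IrrCharacter G) (δ₁ δ₂ δ₃ : ℤ),
      (δ₁ = 1 ∨ δ₁ = -1) ∧ (δ₂ = 1 ∨ δ₂ = -1) ∧ (δ₃ = 1 ∨ δ₃ = -1) ∧
      χ₁ ≠ trivChar G ∧ χ₂ ≠ trivChar G ∧ χ₃ ≠ trivChar G ∧ χ₁ ≠ χ₂ ∧ χ₁ ≠ χ₃ ∧ χ₂ ≠ χ₃ ∧
      (∀ j, 0 < j → j < q → b j ≠ trivChar G ∧ b j ≠ χ₁ ∧ b j ≠ χ₂ ∧ b j ≠ χ₃) ∧
      (∀ i j, 0 < i → i < q → 0 < j → j < q → b i = b j → i = j) ∧
      (∀ χ, χ ∈ principalBlock M G ↔ χ = trivChar G ∨ χ = χ₁ ∨ χ = χ₂ ∨ χ = χ₃ ∨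
        ∃ j, 0 < j ∧ j < q ∧ χ = b j) ∧
      Nat.card (principalBlock M G) = 3 + q ∧
      (∀ i, 0 < i → i < 2 * q → (χ₁ : G → ℂ) (σ ^ i) = δ₁ ∧
        (χ₂ : G → ℂ) (σ ^ i) = δ₂ * (-1) ^ (i + 1) ∧ (χ₃ : G → ℂ) (σ ^ i) = δ₃ * (-1) ^ (i + 1) ∧
        ∀ j, 0 < j → j < q →
          (b j : G → ℂ) (σ ^ i) = δ₁ * (ζ ^ (j * i) + (ζ ^ (j * i))⁻¹)) ∧
      ∀ ρ : G, ¬ 2 ∣ orderOf ρ → ∀ j, 0 < j → j < q →
        1 + δ₁ * (χ₁ : G → ℂ) ρ = -δ₂ * (χ₂ : G → ℂ) ρ - δ₃ * (χ₃ : G → ℂ) ρ ∧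
          1 + δ₁ * (χ₁ : G → ℂ) ρ = δ₁ * (b j : G → ℂ) ρ := by
  have : Fact (Nat.Prime 2) := ⟨Nat.prime_two⟩
  have := Fintype.ofFinite (IrrCharacter G)
  have hq2 := h.two_le
  obtain ⟨χ₁, χ₂, χ₃, b, δ₁, δ₂, δ₃, hδ₁, hδ₂, hδ₃, h1t, h2t, h3t, h12, h13, h23, hb, hinj,
    ⟨h1B, h2B, h3B, hbB⟩, hval, hrest, hrel⟩ := exists_exceptional h hM
  have hzo := orderOf_z h
  -- the four characters exhaust the norm at a reflection not fused to `σ ^ q`
  have hfour : ∀ w ∈ (P : Subgroup G), orderOf w = 2 → ¬ IsConj w (σ ^ q) →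
      ∀ χ ∈ principalBlock M G, χ ≠ trivChar G → χ ≠ χ₁ → χ ≠ χ₂ → χ ≠ χ₃ →
        (χ : G → ℂ) w = 0 := by
    intro w hw hwo hwz χ hχ n0 n1 n2 n3
    obtain ⟨N', hN', k, hodd, hidx, hk4⟩ := exists_small_complement h hw hwo hwz
    have hn := norm_sq_eq hM ⟨1, by rw [hwo, pow_one]⟩ hodd hidx
    have hge : ∀ x ∈ ({trivChar G, χ₁, χ₂, χ₃} : Finset (IrrCharacter G)),
        (1 : ℝ) ≤ ‖(x : G → ℂ) w‖ ^ 2 := by
      intro x hx
      obtain ⟨a, ha, hpar⟩ := exists_int_parity x hwo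
      obtain ⟨c, hc, hparz⟩ := exists_int_parity x hzo
      have hv := hval q (by omega) (by omega)
      have hodd' : c = 1 ∨ c = -1 := by
        have hsq : ∀ {δ : ℤ}, (δ = 1 ∨ δ = -1) → (δ * (-1) ^ (q + 1) = 1 ∨ δ * (-1) ^ (q + 1) = -1) :=
          fun hδ => by
            rcases neg_one_pow_eq_or ℤ (q + 1) with e | e <;> rcases hδ with rfl | rfl <;> simp [e]
        simp only [Finset.mem_insert, Finset.mem_singleton] at hx
        rcases hx with rfl | rfl | rfl | rfl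
        · rw [trivChar_apply] at hc
          exact Or.inl (by exact_mod_cast hc.symm)
        · have : c = δ₁ := by exact_mod_cast hc.symm.trans hv.1
          rw [this]; exact hδ₁
        · have : c = δ₂ * (-1) ^ (q + 1) := by exact_mod_cast hc.symm.trans hv.2.1
          rw [this]; exact hsq hδ₂
        · have : c = δ₃ * (-1) ^ (q + 1) := by exact_mod_cast hc.symm.trans hv.2.2.1
          rw [this]; exact hsq hδ₃
      have hne : a ≠ 0 := by omega
      rw [ha, Complex.norm_intCast]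
      have := Int.one_le_abs hne
      have h1 : (1 : ℝ) ≤ |(a : ℝ)| := by exact_mod_cast this
      nlinarith
    have hcard : ({trivChar G, χ₁, χ₂, χ₃} : Finset (IrrCharacter G)).card = 4 := by
      rw [Finset.card_insert_of_notMem (by simp [h1t.symm, h2t.symm, h3t.symm]),
        Finset.card_insert_of_notMem (by simp [h12, h13]), Finset.card_pair h23]
    have hlow := Finset.card_nsmul_le_sum _ (fun x : IrrCharacter G => ‖(x : G → ℂ) w‖ ^ 2) 1 hge
    rw [hcard, nsmul_eq_mul, mul_one] at hlow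
    by_contra hne
    have hsub : insert χ ({trivChar G, χ₁, χ₂, χ₃} : Finset (IrrCharacter G)) ⊆
        (Set.toFinite (principalBlock M G)).toFinset := by
      intro x hx
      rw [Set.Finite.mem_toFinset]
      simp only [Finset.mem_insert, Finset.mem_singleton] at hx
      rcases hx with rfl | rfl | rfl | rfl | rfl
      exacts [hχ, trivChar_mem_principalBlock, h1B, h2B, h3B]
    have hle := Finset.sum_le_sum_of_subset_of_nonneg
      (f := fun x : IrrCharacter G => ‖(x : G → ℂ) w‖ ^ 2) hsub fun x _ _ => sq_nonneg _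
    rw [Finset.sum_insert (by simp [n0, n1, n2, n3]), hn] at hle
    have hpos : 0 < ‖(χ : G → ℂ) w‖ ^ 2 := by positivity
    have hk' : ((2 : ℕ) : ℝ) ^ k ≤ 4 := by exact_mod_cast hk4
    push_cast at hlow hk' hle
    linarith
  have hiff : ∀ χ, χ ∈ principalBlock M G ↔ χ = trivChar G ∨ χ = χ₁ ∨ χ = χ₂ ∨ χ = χ₃ ∨
      ∃ j, 0 < j ∧ j < q ∧ χ = b j := by
    intro χ
    refine ⟨fun hχ => ?_, fun hh => ?_⟩
    swap
    · rcases hh with rfl | rfl | rfl | rfl | ⟨j, h0, hj, rfl⟩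
      exacts [trivChar_mem_principalBlock, h1B, h2B, h3B, hbB j h0 hj]
    by_contra hcon
    push Not at hcon
    obtain ⟨n0, n1, n2, n3, nb⟩ := hcon
    have hσ0 := hrest χ hχ n0 n1 n2 n3 nb
    have hrot : ∀ i, 0 < i → i < 2 * q → ∀ v : G, Commute (σ ^ i) v → ¬ 2 ∣ orderOf v →
        (χ : G → ℂ) (σ ^ i * v) = 0 := by
      intro i hi0 hi v hcv hv
      obtain ⟨M', hM', k, hodd, hidx, -⟩ := exists_complement h hi0 hi
      set vC : Subgroup.centralizer ({σ ^ i} : Set G) :=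
        ⟨v, Subgroup.mem_centralizer_singleton_iff.2 hcv.eq.symm⟩ with hvC
      have hv' : ¬ 2 ∣ orderOf vC := by rwa [hvC, Subgroup.orderOf_mk]
      rw [show v = (vC : G) from rfl, apply_mul_eq_of_mem_principalBlock (x := σ ^ i) hM
        (isPow_σ h i) hχ hodd (mem_of_odd M' hidx hv'), hσ0 i hi0 hi]
    have hclass : ∀ (c u v : G), (χ : G → ℂ) (u * v) =
        (χ : G → ℂ) (c * u * c⁻¹ * (c * v * c⁻¹)) := fun c u v => by
      rw [show c * u * c⁻¹ * (c * v * c⁻¹) = c * (u * v) * c⁻¹ by group,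
        IsIrr.isClassFunction χ.2]
    have hconj : ∀ (c u v : G), Commute u v → ¬ 2 ∣ orderOf v →
        Commute (c * u * c⁻¹) (c * v * c⁻¹) ∧ ¬ 2 ∣ orderOf (c * v * c⁻¹) := fun c u v hcv hv =>
      ⟨by show c * u * c⁻¹ * (c * v * c⁻¹) = c * v * c⁻¹ * (c * u * c⁻¹)
          rw [show c * u * c⁻¹ * (c * v * c⁻¹) = c * (u * v) * c⁻¹ by group, hcv.eq]; group,
        by rwa [show c * v * c⁻¹ = MulAut.conj c v by simp, MulEquiv.orderOf_eq]⟩
    have hsing : ∀ g : G, 2 ∣ orderOf g → (χ : G → ℂ) g = 0 := by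
      intro g hg
      obtain ⟨u, hu⟩ := exists_pPart Nat.prime_two g
      have hu1 := (IsPPart.dvd_orderOf_iff Nat.prime_two hu).1 hg
      obtain ⟨v, rfl, hcv, ⟨a, ha⟩, hv⟩ := hu
      obtain ⟨Q, hQ⟩ := (IsPGroup.of_card (n := a) (by rw [Nat.card_zpowers, ha]) :
        IsPGroup 2 (Subgroup.zpowers u)).exists_le_sylow
      obtain ⟨c, hc⟩ := MulAction.exists_smul_eq G Q P
      have hcP : c * u * c⁻¹ ∈ (P : Subgroup G) := by
        rw [← hc, Sylow.coe_subgroup_smul]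
        exact ⟨u, hQ (Subgroup.mem_zpowers u), by simp⟩
      rw [hclass c]
      obtain ⟨hcv', hv'⟩ := hconj c u v hcv hv
      set u' := c * u * c⁻¹ with hu'
      set v' := c * v * c⁻¹ with hv'def
      rcases elt_cases h hcP with ⟨i, hi, e⟩ | ⟨i, -, ho⟩
      · rcases Nat.eq_zero_or_pos i with rfl | hi0
        · exact absurd (conj_eq_one_iff.1 (e.trans (pow_zero σ))) hu1
        · rw [e] at hcv' ⊢; exact hrot i hi0 hi v' hcv' hv'
      · by_cases hz : IsConj u' (σ ^ q)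
        · obtain ⟨d, hd⟩ := isConj_iff.1 hz
          obtain ⟨hcv'', hv''⟩ := hconj d u' v' hcv' hv'
          rw [hclass d, hd]
          rw [hd] at hcv''
          exact hrot q (by omega) (by omega) _ hcv'' hv''
        · obtain ⟨N', hN', k, hodd, hidx, -⟩ := exists_small_complement h hcP ho hz
          set vC : Subgroup.centralizer ({u'} : Set G) :=
            ⟨v', Subgroup.mem_centralizer_singleton_iff.2 hcv'.eq.symm⟩ with hvC
          have hv'' : ¬ 2 ∣ orderOf vC := by rwa [hvC, Subgroup.orderOf_mk]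
          rw [show v' = (vC : G) from rfl, apply_mul_eq_of_mem_principalBlock (x := u') hM
            ⟨1, by rw [ho, pow_one]⟩ hχ hodd (mem_of_odd N' hidx hv''),
            hfour u' hcP ho hz χ hχ n0 n1 n2 n3]
    have hdvd : Nat.card (P : Subgroup G) ∣ charDegree (χ : G → ℂ) := by
      refine card_dvd_charDegree _ χ fun g hg hg1 => hsing g ?_
      obtain ⟨a, ha⟩ := IsPGroup.iff_orderOf.1 P.2 ⟨g, hg⟩
      rw [Subgroup.orderOf_mk] at ha
      rcases a with _ | a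
      · exact absurd (orderOf_eq_one_iff.1 (ha.trans (pow_zero 2))) hg1
      · rw [ha]; exact dvd_pow_self 2 a.succ_ne_zero
    have hnd : ¬ 2 ∣ Nat.card G / charDegree (χ : G → ℂ) := fun hd => P.not_dvd_index (hd.trans ?_)
    swap
    · obtain ⟨m, hm⟩ := charDegree_dvd_card χ
      rw [hm, Nat.mul_div_cancel_left _ (charDegree_pos χ)]
      obtain ⟨r, hr⟩ := hdvd
      have h1 := (P : Subgroup G).card_mul_index
      rw [hm, hr, mul_assoc] at h1
      exact ⟨r, by rw [mul_comm m r]; exact Nat.eq_of_mul_eq_mul_left Nat.card_pos h1⟩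
    have hB : principalBlock M G = blockOf M (χ : G → ℂ) :=
      IsPBlock.eq_of_mem isPBlock_principalBlock (isPBlock_blockOf χ) hχ (mem_blockOf_self χ)
    have ht : trivChar G ∈ blockOf M (χ : G → ℂ) := hB ▸ trivChar_mem_principalBlock
    rw [blockOf_eq_singleton hM χ hnd] at ht
    exact n0 (Set.mem_singleton_iff.1 ht).symm
  refine ⟨χ₁, χ₂, χ₃, b, δ₁, δ₂, δ₃, hδ₁, hδ₂, hδ₃, h1t, h2t, h3t, h12, h13, h23, hb, hinj, hiff,
    ?_, hval, hrel⟩
  have hset : principalBlock M G =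
      ↑(({trivChar G, χ₁, χ₂, χ₃} : Finset (IrrCharacter G)) ∪ (Finset.Ioo 0 q).image b) := by
    ext χ
    rw [hiff χ]
    simp only [Finset.coe_union, Finset.coe_insert, Finset.coe_singleton, Finset.coe_image,
      Set.mem_union, Set.mem_insert_iff, Set.mem_singleton_iff, Set.mem_image, Finset.coe_Ioo,
      Set.mem_Ioo, or_assoc]
    refine or_congr_right (or_congr_right (or_congr_right (or_congr_right ?_)))
    exact exists_congr fun j => ⟨fun ⟨a, b, c⟩ => ⟨⟨a, b⟩, c.symm⟩, fun ⟨⟨a, b⟩, c⟩ => ⟨a, b, c.symm⟩⟩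
  rw [hset, Nat.card_coe_set_eq, Set.ncard_coe_finset, Finset.card_union_of_disjoint,
    Finset.card_image_of_injOn, Nat.card_Ioo,
    Finset.card_insert_of_notMem (by simp [h1t.symm, h2t.symm, h3t.symm]),
    Finset.card_insert_of_notMem (by simp [h12, h13]), Finset.card_pair h23]
  · omega
  · intro i hi j hj e
    simp only [Finset.coe_Ioo, Set.mem_Ioo] at hi hj
    exact hinj i j hi.1 hi.2 hj.1 hj.2 e
  · rw [Finset.disjoint_left]
    intro x hx hx'
    obtain ⟨j, hj, rfl⟩ := Finset.mem_image.1 hx'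
    rw [Finset.mem_Ioo] at hj
    obtain ⟨b0, b1, b2, b3⟩ := hb j hj.1 hj.2
    simp [b0, b1, b2, b3] at hx

end CfsgLib.Blocks.DihedralBlock
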