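import Cfsg.Agent.Lib.Blocks.DihedralFormula.Setup

/-!
# The rotations in the centralizer of the central involution

No hypothesis on the fusion of involutions is needed.
-/

set_option autoImplicit false

namespace CfsgLib.Blocks.DihedralBlock

open Cfsg CfsgLib CfsgLib.Char CfsgLib.Blocks.DihedralFormula
open scoped Classical

variable {G : Type*} [Group G] [Fintype G]

/-- The rotations `K` in the centralizer of `σ ^ q`, the character `l` with kernel `N`. -/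
structure Rot (P : Sylow 2 G) (σ τ : G) (q : ℕ) (ζ : ℂ) (K : Subgroup G) (l : K →* ℂˣ)
    (N : Subgroup G) : Prop where
  two_le : 2 ≤ q
  pow_two' : ∃ e, q = 2 ^ e
  ord : orderOf σ = 2 * q
  prim : IsPrimitiveRoot ζ (2 * q)
  memσ : σ ∈ (P : Subgroup G)
  memτ : τ ∈ (P : Subgroup G)
  τ_sq : τ * τ = 1
  rel : τ * σ * τ⁻¹ = σ⁻¹
  notMem : τ ∉ Subgroup.zpowers σ
  elt : ∀ g ∈ (P : Subgroup G), ∃ i : ℤ, g = σ ^ i ∨ g = σ ^ i * τ
  le_C : (P : Subgroup G) ≤ Subgroup.centralizer ({σ ^ q} : Set G)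
  data : Data (σ ^ q) K l
  σK : ∃ h : σ ∈ K, (l ⟨σ, h⟩ : ℂ) = ζ
  le : N ≤ K
  ker : ∀ k : K, l k = 1 ↔ (k : G) ∈ N
  odd : ¬ 2 ∣ Nat.card N
  normal : ∀ c ∈ Subgroup.centralizer ({σ ^ q} : Set G), ∀ n ∈ N, c * n * c⁻¹ ∈ N
  range : ∀ k : K, ∃ i : ℕ, i < 2 * q ∧ (l k : ℂ) = ζ ^ i

/-- The rotations exist. -/
theorem exists_rot (P : Sylow 2 G) {n : ℕ} (hn : 3 ≤ n)
    (hP : Nonempty ((P : Subgroup G) ≃* DihedralGroup (2 ^ (n - 1)))) {σ : G}
    (hσ : σ ∈ (P : Subgroup G)) (hσo : orderOf σ = 2 ^ (n - 1)) {ζ : ℂ}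
    (hζp : IsPrimitiveRoot ζ (2 ^ (n - 1))) :
    ∃ (τ : G) (K : Subgroup G) (l : K →* ℂˣ) (N : Subgroup G),
      Rot P σ τ (2 ^ (n - 2)) ζ K l N := by
  have : Fact (Nat.Prime 2) := ⟨Nat.prime_two⟩
  set m := 2 ^ (n - 1) with hm
  set q := 2 ^ (n - 2) with hq
  have hmq : m = 2 * q := by rw [hm, hq, ← pow_succ']; congr 1; omega
  have hq2 : 2 ≤ q := by
    rw [hq]; exact le_trans (by norm_num) (Nat.pow_le_pow_right two_pos (by omega : 1 ≤ n - 2))
  set z := σ ^ q with hz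
  set C := Subgroup.centralizer ({z} : Set G) with hC
  have hzo : orderOf z = 2 := by
    rw [hz, orderOf_pow_of_dvd (by omega) (hσo ▸ hmq ▸ dvd_mul_left q 2), hσo, hmq,
      Nat.mul_div_cancel _ (by omega)]
  have hzz : z * z = 1 := by rw [← pow_two, ← hzo, pow_orderOf_eq_one]
  have hz1 : z ≠ 1 := fun e => by rw [e, orderOf_one] at hzo; norm_num at hzo
  obtain ⟨eD⟩ := hP
  haveI : NeZero m := ⟨by omega⟩
  let σP : (P : Subgroup G) := ⟨σ, hσ⟩
  obtain ⟨i, hi⟩ : ∃ i : ZMod m, eD σP = DihedralGroup.r i := by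
    rcases h : eD σP with i | i
    · exact ⟨i, rfl⟩
    · exfalso
      have h1 := MulEquiv.orderOf_eq eD σP
      rw [h, DihedralGroup.orderOf_sr, Subgroup.orderOf_mk, hσo] at h1
      omega
  set τP : (P : Subgroup G) := eD.symm (DihedralGroup.sr 0) with hτPdef
  set τ : G := (τP : G) with hτdef
  have hτ : τ ∈ (P : Subgroup G) := τP.2
  have hττ : τ * τ = 1 := by
    rw [hτdef, ← Subgroup.coe_mul, hτPdef, ← map_mul, DihedralGroup.sr_mul_self, map_one]; rfl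
  have hτinv : τ⁻¹ = τ := inv_eq_of_mul_eq_one_right hττ
  have hrel : τ * σ * τ⁻¹ = σ⁻¹ := by
    have h1 : τP * σP * τP⁻¹ = σP⁻¹ := eD.injective (by
      rw [map_mul, map_mul, map_inv, map_inv, hi, hτPdef, MulEquiv.apply_symm_apply]
      simp)
    exact congrArg Subtype.val h1
  set H : Subgroup (P : Subgroup G) := Subgroup.zpowers σP with hH
  have hmemH : ∀ w : (P : Subgroup G), w ∈ H ↔ ∃ i : ℤ, (w : G) = σ ^ i := fun w => by
    rw [hH, Subgroup.mem_zpowers_iff]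
    exact ⟨fun ⟨i, hi⟩ => ⟨i, by rw [← hi]; simp [σP]⟩, fun ⟨i, hi⟩ =>
      ⟨i, Subtype.ext (by simp [σP, hi])⟩⟩
  have hτH : τP ∉ H := fun hmem => by
    obtain ⟨j, hj⟩ := Subgroup.mem_zpowers_iff.1 hmem
    have h1 := congrArg eD hj
    rw [map_zpow, hi, hτPdef, MulEquiv.apply_symm_apply, DihedralGroup.r_zpow] at h1
    cases h1
  have hτσ : τ ∉ Subgroup.zpowers σ := fun hmem => by
    obtain ⟨j, hj⟩ := hmem
    exact hτH ((hmemH _).2 ⟨j, hj.symm⟩)
  have hHidx : H.index = 2 := by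
    have h1 := H.card_mul_index
    rw [hH, Nat.card_zpowers, Subgroup.orderOf_mk, hσo, Nat.card_congr eD.toEquiv,
      DihedralGroup.nat_card, mul_comm 2 m] at h1
    exact Nat.eq_of_mul_eq_mul_left (by omega) h1
  have helt : ∀ g ∈ (P : Subgroup G), ∃ i : ℤ, g = σ ^ i ∨ g = σ ^ i * τ := by
    intro g hg
    by_cases hgH : (⟨g, hg⟩ : (P : Subgroup G)) ∈ H
    · obtain ⟨j, hj⟩ := (hmemH _).1 hgH
      exact ⟨j, Or.inl hj⟩
    · obtain ⟨j, hj⟩ := (hmemH _).1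
        ((Subgroup.mul_mem_iff_of_index_two hHidx).2 (iff_of_false hgH hτH))
      exact ⟨j, Or.inr (by rw [← hj, Subgroup.coe_mul, mul_assoc, hττ, mul_one])⟩
  have hnotH : ∀ w : (P : Subgroup G), w ∉ H → ∃ i : ℤ, (w : G) = σ ^ i * τ := fun w hw => by
    obtain ⟨i, hi | hi⟩ := helt w w.2
    · exact absurd ((hmemH w).2 ⟨i, hi⟩) hw
    · exact ⟨i, hi⟩
  have hzC : ∀ g ∈ (P : Subgroup G), g ∈ C := by
    intro g hg
    rw [hC, Subgroup.mem_centralizer_singleton_iff]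
    obtain ⟨i, rfl | rfl⟩ := helt g hg
    · exact ((Commute.refl σ).pow_right q).zpow_left i
    · have h1 : τ * z = z * τ := by
        have := conj_zpow_neg hrel q
        rw [zpow_natCast, zpow_neg, zpow_natCast, ← hz, inv_eq_of_mul_eq_one_right hzz] at this
        rw [← mul_inv_eq_iff_eq_mul.1 this]
      exact (Commute.mul_left (((Commute.refl σ).pow_right q).zpow_left i) h1)
  -- the normal complement of the centralizer
  have hPC : (P : Subgroup G) ≤ C := hzC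
  let S : Sylow 2 C := P.subtype hPC
  have hSm : ∀ c : C, c ∈ (S : Subgroup C) ↔ (c : G) ∈ (P : Subgroup G) := fun c => Iff.rfl
  obtain ⟨mm, fD, hmm, -, hfD, hSD⟩ := CfsgLib.TwoGroups.Dihedral.exists_model (by omega) eD
  obtain ⟨N, hN, hNS⟩ := (CfsgLib.Transfer.exists_complement_iff S).2
    (CfsgLib.TwoGroups.Dihedral.centralizer_complement hfD hSD hmm hzo)
  have hNodd : ¬ 2 ∣ Nat.card N := by
    have h1 := hNS.card_mul
    rw [← (S : Subgroup C).card_mul_index, mul_comm] at h1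
    rw [Nat.eq_of_mul_eq_mul_left Nat.card_pos h1]
    exact S.not_dvd_index
  let j : (P : Subgroup G) →* C ⧸ N := (QuotientGroup.mk' N).comp (Subgroup.inclusion hPC)
  have hjb : Function.Bijective j := by
    have hinj : Function.Injective j := by
      refine (injective_iff_map_eq_one _).2 fun w hw => ?_
      have hmem : Subgroup.inclusion hPC w ∈ N := (QuotientGroup.eq_one_iff _).1 hw
      have hbot : Subgroup.inclusion hPC w ∈ N ⊓ (S : Subgroup C) := ⟨hmem, w.2⟩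
      rw [hNS.disjoint.eq_bot, Subgroup.mem_bot] at hbot
      exact Subtype.ext (congrArg Subtype.val hbot :)
    refine (Nat.bijective_iff_injective_and_card j).2 ⟨hinj, ?_⟩
    have h1 := hNS.card_mul
    rw [← N.card_mul_index] at h1
    rw [← Subgroup.index_eq_card, ← Nat.eq_of_mul_eq_mul_left Nat.card_pos h1]
    exact Nat.card_congr (Subgroup.subgroupOfEquivOfLe hPC).symm.toEquiv
  let π : C →* (P : Subgroup G) := (MulEquiv.ofBijective j hjb).symm.toMonoidHom.comp (QuotientGroup.mk' N)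
  have hπP : ∀ w : (P : Subgroup G), π (Subgroup.inclusion hPC w) = w := fun w =>
    (MulEquiv.ofBijective j hjb).symm_apply_apply w
  have hπN : ∀ c : C, π c = 1 ↔ c ∈ N := fun c => by
    show (MulEquiv.ofBijective j hjb).symm _ = 1 ↔ _
    rw [map_eq_one_iff _ (MulEquiv.ofBijective j hjb).symm.injective]
    exact QuotientGroup.eq_one_iff c
  have hπsurj : Function.Surjective π := fun w => ⟨_, hπP w⟩
  have hπodd : ∀ c : C, ¬ 2 ∣ orderOf c → π c = 1 := fun c hc => by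
    rw [← orderOf_eq_one_iff]
    obtain ⟨k, hk⟩ := IsPGroup.iff_orderOf.1 P.2 (π c)
    have h2 : orderOf (π c) ∣ orderOf c := orderOf_map_dvd π c
    rw [hk] at h2 ⊢
    rcases k with _ | k
    · rfl
    · exact absurd ((dvd_pow_self 2 k.succ_ne_zero).trans h2) hc
  set K' : Subgroup C := H.comap π with hK'
  have hK'idx : K'.index = 2 := by rw [hK', Subgroup.index_comap_of_surjective _ hπsurj, hHidx]
  haveI hK'n : K'.Normal := Subgroup.normal_of_index_eq_two hK'idx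
  set K : Subgroup G := K'.map C.subtype with hK
  have hKC : K ≤ C := Subgroup.map_subtype_le K'
  have hKm : ∀ c : C, (c : G) ∈ K ↔ π c ∈ H := fun c =>
    Subgroup.mem_map_iff_mem C.subtype_injective
  have hKcard : Nat.card K = Nat.card K' := Subgroup.card_map_of_injective C.subtype_injective
  -- the linear character
  set ζu : ℂˣ := (hζp.isUnit (by omega)).unit with hζu
  have hζo : orderOf ζu = m := by
    rw [← orderOf_units, hζu, IsUnit.unit_spec]; exact hζp.eq_orderOf.symm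
  let g : H := ⟨σP, Subgroup.mem_zpowers σP⟩
  have hgen' : ∀ x : H, x ∈ Subgroup.zpowers g := fun x => by
    obtain ⟨i, hi⟩ := Subgroup.mem_zpowers_iff.1 x.2
    exact Subgroup.mem_zpowers_iff.2 ⟨i, Subtype.ext (by simpa using hi)⟩
  have hgo : orderOf g = m := by rw [Subgroup.orderOf_mk, Subgroup.orderOf_mk, hσo]
  let χ₀ : H →* ℂˣ := monoidHomOfForallMemZpowers hgen' (by rw [hζo, hgo] : orderOf ζu ∣ orderOf g)
  have hχ₀g : χ₀ g = ζu := monoidHomOfForallMemZpowers_apply_gen hgen' _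
  have hχ₀inj : ∀ x : H, χ₀ x = 1 → x = 1 := fun x hx => by
    obtain ⟨i, rfl⟩ := Subgroup.mem_zpowers_iff.1 (hgen' x)
    rw [map_zpow, hχ₀g] at hx
    rw [← orderOf_dvd_iff_zpow_eq_one, hζo] at hx
    rwa [← orderOf_dvd_iff_zpow_eq_one, hgo]
  let l : K →* ℂˣ :=
    { toFun := fun k => χ₀ ⟨π ⟨(k : G), hKC k.2⟩, (hKm _).1 k.2⟩
      map_one' := by
        rw [← map_one χ₀]; exact congrArg χ₀ (Subtype.ext (map_one π))
      map_mul' := fun a b => by
        rw [← map_mul]; exact congrArg χ₀ (Subtype.ext (map_mul π ⟨(a : G), hKC a.2⟩ ⟨(b : G), hKC b.2⟩)) }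
  have hl1 : ∀ k : K, l k = 1 ↔ π ⟨(k : G), hKC k.2⟩ = 1 := fun k =>
    ⟨fun e => congrArg Subtype.val (hχ₀inj _ e), fun e =>
      (congrArg χ₀ (Subtype.ext e : (⟨π ⟨(k : G), hKC k.2⟩, (hKm _).1 k.2⟩ : H) = 1)).trans (map_one χ₀)⟩
  -- powers equal to `z`
  have hzH : (⟨z, hzC z (Subgroup.pow_mem _ hσ q)⟩ : C) = Subgroup.inclusion hPC (σP ^ q) :=
    Subtype.ext (by simp [σP, hz])
  have hpow : ∀ k : K, l k ≠ 1 → z ∈ Subgroup.zpowers (k : G) := by
    intro k hk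
    set c : C := ⟨(k : G), hKC k.2⟩
    have hne : π c ≠ 1 := fun e => hk ((hl1 k).2 e)
    obtain ⟨a, ha⟩ := IsPGroup.iff_orderOf.1 P.2 (π c)
    obtain ⟨a, rfl⟩ : ∃ b, a = b + 1 := ⟨a - 1, by
      rcases a with _ | a
      · exact absurd (orderOf_eq_one_iff.1 (ha.trans (pow_zero 2))) hne
      · omega⟩
    have hcH : π c ∈ Subgroup.zpowers σP := (hKm c).1 k.2
    have hj : (π c) ^ (2 ^ a) = σP ^ q := by
      have h2 : orderOf ((π c) ^ (2 ^ a)) = 2 := by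
        rw [orderOf_pow_of_dvd (pow_ne_zero _ two_ne_zero) (ha ▸ pow_dvd_pow 2 (Nat.le_succ a)), ha,
          pow_succ, Nat.mul_div_cancel_left _ (pow_pos two_pos a)]
      refine involution_eq (k := σP) (Subgroup.pow_mem _ hcH _) (Subgroup.npow_mem_zpowers σP q)
        (by rw [← pow_two]; exact orderOf_dvd_iff_pow_eq_one.1 h2.dvd) (Subtype.ext (by simpa [σP] using hzz))
        (fun e => by rw [e, orderOf_one] at h2; norm_num at h2)
        (fun e => hz1 (by simpa [σP] using congrArg Subtype.val e))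
    set zC : C := ⟨z, hzC z (Subgroup.pow_mem _ hσ q)⟩ with hzCdef
    have hv : zC⁻¹ * c ^ (2 ^ a) ∈ N := by
      rw [← hπN, map_mul, map_inv, map_pow, hj, hzH, hπP, inv_mul_cancel]
    have hodd : Odd (Nat.card N) := Nat.odd_iff.2 (Nat.two_dvd_ne_zero.1 hNodd)
    have hcomm : Commute zC (zC⁻¹ * c ^ (2 ^ a)) := by
      refine Commute.mul_right ((Commute.refl zC).inv_right) (Commute.pow_right ?_ _)
      exact Subtype.ext (Subgroup.mem_centralizer_singleton_iff.1 c.2).symm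
    have hfin : c ^ (2 ^ a * Nat.card N) = zC := by
      rw [pow_mul, ← mul_inv_cancel_left zC (c ^ (2 ^ a)), hcomm.mul_pow]
      have e1 : zC ^ Nat.card N = zC := by
        obtain ⟨b, hb⟩ := hodd
        rw [hb, pow_succ, pow_mul, pow_two,
          show zC * zC = 1 from Subtype.ext hzz, one_pow, one_mul]
      have e2 : (zC⁻¹ * c ^ (2 ^ a)) ^ Nat.card N = 1 :=
        orderOf_dvd_iff_pow_eq_one.1 (Subgroup.orderOf_dvd_natCard N hv)
      rw [e1, e2, mul_one]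
    exact ⟨((2 ^ a * Nat.card N : ℕ) : ℤ), by
      show (k : G) ^ ((2 ^ a * Nat.card N : ℕ) : ℤ) = z
      rw [zpow_natCast]
      exact (congrArg Subtype.val hfin :)⟩
  have hzK : z ∈ K := by
    have := (hKm ⟨z, hzC z (Subgroup.pow_mem _ hσ q)⟩).2
      (by rw [hzH, hπP]; exact Subgroup.npow_mem_zpowers σP q)
    exact this
  have hzinvol : ∀ a : G, IsConj z a → a * a = 1 ∧ a ≠ 1 := fun a ha => by
    obtain ⟨x, rfl⟩ := isConj_iff.1 ha
    exact ⟨by rw [show x * z * x⁻¹ * (x * z * x⁻¹) = x * (z * z) * x⁻¹ by group, hzz]; group,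
      fun e => hz1 (by simpa using e)⟩
  have hD : Data z K l := by
    refine ⟨hzK, fun hh => ?_, hKC, ?_, ?_, ?_, ?_, ?_, ?_⟩
    · show ((χ₀ _ : ℂˣ) : ℂ) = -1
      rw [show (⟨π ⟨z, hKC hh⟩, (hKm _).1 hh⟩ : H) = g ^ q from Subtype.ext (by
        show π ⟨z, hKC hh⟩ = ((g ^ q : H) : (P : Subgroup G))
        rw [show (⟨z, hKC hh⟩ : C) = Subgroup.inclusion hPC (σP ^ q) from hzH, hπP,
          Subgroup.coe_pow]), map_pow, hχ₀g, Units.val_pow_eq_pow_val, hζu, IsUnit.unit_spec]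
      exact (hζp.pow (by omega) (by rw [hmq, mul_comm] : m = q * 2)).eq_neg_one_of_two_right
    · show Nat.card C = 2 * Nat.card K
      rw [hKcard, ← K'.card_mul_index, hK'idx, mul_comm]
    · intro k x hx hk hk'
      have h1 := hpow k hk
      have h2 := hpow ⟨_, hx⟩ hk'
      have h3 : x * z * x⁻¹ ∈ Subgroup.zpowers (x * (k : G) * x⁻¹) := by
        obtain ⟨i, hi⟩ := h1
        exact ⟨i, by show (x * (k : G) * x⁻¹) ^ i = _; rw [conj_zpow]; exact congrArg (fun w => x * w * x⁻¹) hi⟩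
      obtain ⟨e1, e2⟩ := hzinvol (x * z * x⁻¹) (isConj_iff.2 ⟨x, rfl⟩)
      have := involution_eq h3 h2 e1 hzz e2 hz1
      rw [Subgroup.mem_centralizer_singleton_iff]
      calc x * z = x * z * x⁻¹ * x := by group
        _ = z * x := by rw [this]
    · intro a haC haK k
      have hm' : a * (k : G) * a⁻¹ ∈ K :=
        (hKm ⟨_, mul_mem (mul_mem haC (hKC k.2)) (inv_mem haC)⟩).2
          (hK'n.conj_mem ⟨(k : G), hKC k.2⟩ ((hKm _).1 k.2) ⟨a, haC⟩)
      refine ⟨hm', ?_⟩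
      show χ₀ _ = (χ₀ _)⁻¹
      rw [← map_inv]
      refine congrArg χ₀ (Subtype.ext ?_)
      show π (⟨a, haC⟩ * ⟨(k : G), hKC k.2⟩ * (⟨a, haC⟩ : C)⁻¹) = (π ⟨(k : G), hKC k.2⟩)⁻¹
      rw [map_mul, map_mul, map_inv]
      obtain ⟨i, hi⟩ := hnotH _ (fun hh => haK ((hKm ⟨a, haC⟩).2 hh))
      obtain ⟨s, hs⟩ := (hmemH _).1 ((hKm ⟨(k : G), hKC k.2⟩).1 k.2)
      refine Subtype.ext ?_
      rw [Subgroup.coe_mul, Subgroup.coe_mul, Subgroup.coe_inv, Subgroup.coe_inv, hi, hs,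
        show σ ^ i * τ * σ ^ s * (σ ^ i * τ)⁻¹ = σ ^ i * (τ * σ ^ s * τ⁻¹) * (σ ^ i)⁻¹ by group,
        conj_zpow_neg hrel, ← zpow_neg σ i, ← zpow_add, ← zpow_add, ← zpow_neg]
      congr 1
      ring
    · intro a b haC haK hbC hbK
      refine (hKm ⟨a * b, mul_mem haC hbC⟩).2 ?_
      rw [show (⟨a * b, mul_mem haC hbC⟩ : C) = ⟨a, haC⟩ * ⟨b, hbC⟩ from rfl, map_mul,
        Subgroup.mul_mem_iff_of_index_two hHidx]
      exact iff_of_false (fun hh => haK ((hKm _).2 hh)) (fun hh => hbK ((hKm _).2 hh))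
    · intro a haK ha
      obtain ⟨e1, e2⟩ := hzinvol a ha
      have hl : l ⟨a, haK⟩ ≠ 1 := fun e => by
        have hN' := (hπN _).1 ((hl1 ⟨a, haK⟩).1 e)
        have h2 : orderOf (⟨a, hKC haK⟩ : C) = 2 := by
          rw [Subgroup.orderOf_mk]
          exact orderOf_eq_prime (by rw [pow_two]; exact e1) e2
        exact hNodd (h2 ▸ Subgroup.orderOf_dvd_natCard N hN')
      exact (involution_eq (hpow ⟨a, haK⟩ hl) (Subgroup.mem_zpowers a) hzz e1 hz1 e2).symm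
    · refine ⟨⟨σ, (hKm ⟨σ, hPC hσ⟩).2 (by
        rw [show (⟨σ, hPC hσ⟩ : C) = Subgroup.inclusion hPC σP from rfl, hπP]
        exact Subgroup.mem_zpowers σP)⟩, ?_⟩
      show χ₀ _ * χ₀ _ ≠ 1
      rw [show (⟨π ⟨σ, hPC hσ⟩, _⟩ : H) = g from Subtype.ext (hπP σP), hχ₀g, ← pow_two]
      intro e
      have := Nat.le_of_dvd two_pos (orderOf_dvd_of_pow_eq_one e)
      omega
  obtain ⟨hσKm, hσl⟩ : ∃ hh : σ ∈ K, (l ⟨σ, hh⟩ : ℂ) = ζ := by
    refine ⟨(hKm ⟨σ, hPC hσ⟩).2 (by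
      rw [show (⟨σ, hPC hσ⟩ : C) = Subgroup.inclusion hPC σP from rfl, hπP]
      exact Subgroup.mem_zpowers σP), ?_⟩
    show ((χ₀ _ : ℂˣ) : ℂ) = ζ
    rw [show (⟨π ⟨σ, hPC hσ⟩, _⟩ : H) = g from Subtype.ext (hπP σP), hχ₀g, hζu, IsUnit.unit_spec]
  refine ⟨τ, K, l, N.map C.subtype, ⟨hq2, ⟨n - 2, rfl⟩, hσo.trans hmq, hmq ▸ hζp, hσ, hτ, hττ, hrel,
    hτσ, helt, hPC, hD, ⟨hσKm, hσl⟩, ?_, ?_, ?_, ?_, ?_⟩⟩
  · exact Subgroup.map_mono fun c hc => show π c ∈ H by rw [(hπN c).2 hc]; exact one_mem H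
  · intro k
    rw [hl1, hπN]
    exact (Subgroup.mem_map_iff_mem C.subtype_injective (x := ⟨(k : G), hKC k.2⟩)).symm
  · rwa [Subgroup.card_map_of_injective C.subtype_injective]
  · rintro c hc _ ⟨x, hx, rfl⟩
    exact ⟨⟨c, hc⟩ * x * ⟨c, hc⟩⁻¹, hN.conj_mem x hx _, rfl⟩
  · intro k
    set x : H := ⟨π ⟨(k : G), hKC k.2⟩, (hKm _).1 k.2⟩ with hx
    obtain ⟨j, hj⟩ := (mem_powers_iff_mem_zpowers.2 (hgen' x) : x ∈ Submonoid.powers g)
    refine ⟨j % m, hmq ▸ Nat.mod_lt _ (by omega), ?_⟩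
    show ((χ₀ x : ℂˣ) : ℂ) = _
    rw [← hj, map_pow, hχ₀g, Units.val_pow_eq_pow_val, hζu, IsUnit.unit_spec, hζp.eq_orderOf]
    exact (pow_mod_orderOf ζ j).symm

end CfsgLib.Blocks.DihedralBlock
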