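import Cfsg.Agent.Lib.Blocks.Principal
import Cfsg.Agent.Lib.Blocks.Kernel
import Cfsg.Agent.Lib.Blocks.Sections

/-!
# Sums over the section of a `p`-element with `p`-nilpotent centralizer
-/

set_option autoImplicit false

namespace CfsgLib.Blocks.DihedralBlock

open Cfsg CfsgLib CfsgLib.Char
open scoped ComplexConjugate Classical

variable {G : Type*} [Group G] [Fintype G] {p : ℕ} [Fact p.Prime] {M : Ideal AlgInt} [M.IsPrime]

section

variable (hM : IsPModular p M) {x : G} (hx : ∃ k : ℕ, orderOf x = p ^ k)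
  {N : Subgroup (Subgroup.centralizer ({x} : Set G))} [N.Normal] {k : ℕ}
  (hN : ¬ p ∣ Nat.card N) (hidx : N.index = p ^ k)

include hM hN hidx in
omit [Fintype G] in
theorem principal_eq_filter [Finite G] [Fintype (Subgroup.centralizer ({x} : Set G))]
    [Fintype (IrrCharacter (Subgroup.centralizer ({x} : Set G)))] :
    (Set.toFinite (principalBlock M (Subgroup.centralizer ({x} : Set G)))).toFinset =
      Finset.univ.filter (fun ψ : IrrCharacter (Subgroup.centralizer ({x} : Set G)) =>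
        ∀ n ∈ N, (ψ : Subgroup.centralizer ({x} : Set G) → ℂ) n =
          (ψ : Subgroup.centralizer ({x} : Set G) → ℂ) 1) := by
  ext ψ
  rw [Set.Finite.mem_toFinset, principalBlock_eq_of_complement N hM hN hidx]
  simp

include hM hx hN hidx in
/-- The norm at `x` of the principal block. -/
theorem norm_sq_eq [Fintype (IrrCharacter G)] :
    ∑ χ ∈ (Set.toFinite (principalBlock M G)).toFinset, ‖(χ : G → ℂ) x‖ ^ 2 = (p : ℝ) ^ k := by
  have := Fintype.ofFinite (IrrCharacter (Subgroup.centralizer ({x} : Set G)))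
  have h := sum_principalBlock_norm_sq hM hx
    (y := (1 : Subgroup.centralizer ({x} : Set G))) (by simp [hM.1.ne_one])
  rw [OneMemClass.coe_one, mul_one, finsum_mem_eq_finite_toFinset_sum _ (Set.toFinite _),
    finsum_mem_eq_finite_toFinset_sum _ (Set.toFinite _)] at h
  rw [h, principal_eq_filter hM hN hidx, Finset.sum_congr rfl
    (g := fun ψ : IrrCharacter (Subgroup.centralizer ({x} : Set G)) =>
      ((charDegree (ψ : Subgroup.centralizer ({x} : Set G) → ℂ) ^ 2 : ℕ) : ℝ)) fun ψ _ => by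
      rw [apply_one_eq_charDegree, Complex.norm_natCast, Nat.cast_pow],
    ← Nat.cast_sum, sum_degree_sq_trivial N, hidx]
  push_cast
  rfl

include hM hx hN hidx in
/-- Outside the principal block the sum over the section vanishes. -/
theorem sum_section_eq_zero {χ : IrrCharacter G} (hχ : χ ∉ principalBlock M G) :
    ∑ y : N, (χ : G → ℂ) (x * ((y : Subgroup.centralizer ({x} : Set G)) : G)) = 0 := by
  have := Fintype.ofFinite (IrrCharacter (Subgroup.centralizer ({x} : Set G)))
  have h1r : ¬ p ∣ orderOf (1 : Subgroup.centralizer ({x} : Set G)) := by simp [hM.1.ne_one]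
  have h := blockPart_principal_translate hM hx χ h1r
  rw [if_neg hχ, blockPart_apply] at h
  have hdeg := sum_degree_sq_trivial N
  have hw : ∀ w : Subgroup.centralizer ({x} : Set G),
      ∑ᶠ ψ ∈ principalBlock M (Subgroup.centralizer ({x} : Set G)),
        (ψ : Subgroup.centralizer ({x} : Set G) → ℂ) 1 *
          (ψ : Subgroup.centralizer ({x} : Set G) → ℂ) w⁻¹ =
        if w ∈ N then (N.index : ℂ) else 0 := by
    intro w
    by_cases hwN : w ∈ N
    · rw [if_pos hwN, finsum_mem_eq_finite_toFinset_sum _ (Set.toFinite _),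
        principal_eq_filter hM hN hidx, ← hdeg, Nat.cast_sum]
      exact Finset.sum_congr rfl fun ψ hψ => by
        rw [(Finset.mem_filter.1 hψ).2 _ (inv_mem hwN), apply_one_eq_charDegree, Nat.cast_pow, sq]
    · rw [if_neg hwN]
      refine sum_block_regular_singular hM isPBlock_principalBlock h1r ?_
      rw [orderOf_inv]
      by_contra hd
      refine hwN ((QuotientGroup.eq_one_iff w).1 (orderOf_eq_one_iff.1 ?_))
      refine Nat.eq_one_of_dvd_coprimes
        (((Nat.Prime.coprime_iff_not_dvd hM.1).2 hd).pow_left k) ?_ (orderOf_map_dvd (QuotientGroup.mk' N) w)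
      have := orderOf_dvd_natCard (QuotientGroup.mk' N w)
      rwa [← Subgroup.index_eq_card, hidx] at this
  simp only [hw, mul_ite, mul_zero, ← Finset.sum_filter] at h
  rw [Finset.sum_subtype (p := (· ∈ N)) _ (by simp), ← Finset.sum_mul] at h
  rcases mul_eq_zero.1 h with h0 | h0
  · exact absurd h0 (inv_ne_zero (Nat.cast_ne_zero.2 Nat.card_pos.ne'))
  · exact (mul_eq_zero.1 h0).resolve_right (Nat.cast_ne_zero.2 (by
      rw [hidx]; exact pow_ne_zero _ hM.1.ne_zero))

end

/-- The sum over a coset `x N` conjugate into the section of `x`. -/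
theorem coset_sum {x : G} (hxp : ∃ k, orderOf x = p ^ k) {N : Subgroup G}
    (hN : ¬ p ∣ Nat.card N) (hxN : ∀ n ∈ N, x⁻¹ * n * x ∈ N)
    (hsurj : ∀ n ∈ N, ∃ d ∈ N, ∃ v ∈ N, Commute x v ∧ d * (x * v) * d⁻¹ = x * n)
    {F : G → ℂ} (hF : IsClassFunction G F) :
    (Nat.card ↥(N ⊓ Subgroup.centralizer ({x} : Set G)) : ℂ) * ∑ n : N, F (x * n) =
      (Nat.card N : ℂ) * ∑ v : ↥(N ⊓ Subgroup.centralizer ({x} : Set G)), F (x * v) := by
  set Nx := N ⊓ Subgroup.centralizer ({x} : Set G) with hNx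
  have hc : ∀ v : Nx, Commute x (v : G) := fun v =>
    (Subgroup.mem_centralizer_singleton_iff.1 (Subgroup.mem_inf.1 v.2).2).symm
  have hmem : ∀ q : N × Nx, x⁻¹ * ((q.1 : G) * (x * q.2) * (q.1 : G)⁻¹) ∈ N := fun q => by
    rw [show x⁻¹ * ((q.1 : G) * (x * q.2) * (q.1 : G)⁻¹) = x⁻¹ * q.1 * x * q.2 * (q.1 : G)⁻¹ by group]
    exact mul_mem (mul_mem (hxN _ q.1.2) (Subgroup.mem_inf.1 q.2.2).1) (inv_mem q.1.2)
  set f : N × Nx → N := fun q => ⟨_, hmem q⟩ with hf
  have hval : ∀ q : N × Nx, x * (f q : G) = (q.1 : G) * (x * q.2) * (q.1 : G)⁻¹ := fun q => by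
    simp [hf, mul_assoc]
  have hfib : ∀ n : N, (Finset.univ.filter fun q : N × Nx => f q = n).card = Nat.card Nx := by
    intro n
    obtain ⟨d₀, hd₀, v₀, hv₀, hcv, he⟩ := hsurj n n.2
    have hv₀x : v₀ ∈ Nx := Subgroup.mem_inf.2 ⟨hv₀,
      Subgroup.mem_centralizer_singleton_iff.2 hcv.eq.symm⟩
    rw [Nat.card_eq_fintype_card, ← Fintype.card_coe]
    refine Fintype.card_congr
      { toFun := fun q => ⟨d₀⁻¹ * (q.1.1 : G), Subgroup.mem_inf.2 ⟨mul_mem (inv_mem hd₀) q.1.1.2, ?_⟩⟩
        invFun := fun w => ⟨(⟨d₀ * (w : G), mul_mem hd₀ (Subgroup.mem_inf.1 w.2).1⟩,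
          w⁻¹ * ⟨v₀, hv₀x⟩ * w), ?_⟩
        left_inv := fun q => ?_
        right_inv := fun w => Subtype.ext (inv_mul_cancel_left _ _) }
    · have hq := (Finset.mem_filter.1 q.2).2
      have e1 := hval q.1
      rw [hq, ← he] at e1
      set w := d₀⁻¹ * (q.1.1 : G) with hw
      have e2 : x * v₀ = w * (x * (q.1.2 : G)) * w⁻¹ := by
        calc x * v₀ = d₀⁻¹ * (d₀ * (x * v₀) * d₀⁻¹) * d₀ := by group
          _ = d₀⁻¹ * ((q.1.1 : G) * (x * (q.1.2 : G)) * (q.1.1 : G)⁻¹) * d₀ := by rw [e1]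
          _ = _ := by rw [hw]; group
      have hpw : ∀ v : G, v ∈ N → Commute x v → (x * v) ^ Nat.card N = x ^ Nat.card N :=
        fun v hv hxv => by
          rw [hxv.mul_pow, orderOf_dvd_iff_pow_eq_one.1 (Subgroup.orderOf_dvd_natCard N hv), mul_one]
      have e3 := congrArg (· ^ Nat.card N) e2
      simp only [conj_pow, hpw v₀ hv₀ hcv,
        hpw _ (Subgroup.mem_inf.1 q.1.2.2).1 (hc q.1.2)] at e3
      obtain ⟨k, hk⟩ := hxp
      obtain ⟨t, ht⟩ := exists_pow_eq_self_of_coprime (x := x) (n := Nat.card N) (by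
        rw [hk]
        exact Nat.Coprime.pow_right _
          ((Nat.Prime.coprime_iff_not_dvd (Fact.out : p.Prime)).2 hN).symm)
      have e4 := congrArg (· ^ t) e3
      simp only [conj_pow, ht] at e4
      rw [Subgroup.mem_centralizer_singleton_iff]
      conv_rhs => rw [e4]
      group
    · refine Finset.mem_filter.2 ⟨Finset.mem_univ _, Subtype.ext (mul_left_cancel (a := x) ?_)⟩
      rw [hval, ← he]
      simp only [Subgroup.coe_mul, InvMemClass.coe_inv]
      calc d₀ * (w : G) * (x * ((w : G)⁻¹ * v₀ * (w : G))) * (d₀ * (w : G))⁻¹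
          = d₀ * ((w : G) * x * (w : G)⁻¹) * v₀ * d₀⁻¹ := by group
        _ = d₀ * (x * v₀) * d₀⁻¹ := by rw [← (hc w).eq]; group
    · have hq := (Finset.mem_filter.1 q.2).2
      have e1 := hval q.1
      rw [hq, ← he] at e1
      refine Subtype.ext (Prod.ext (Subtype.ext ?_) (Subtype.ext ?_))
      · simp
      · show (d₀⁻¹ * (q.1.1 : G))⁻¹ * v₀ * (d₀⁻¹ * (q.1.1 : G)) = (q.1.2 : G)
        have hwC : d₀⁻¹ * (q.1.1 : G) * x = x * (d₀⁻¹ * (q.1.1 : G)) := by
          have e2 : x * v₀ = d₀⁻¹ * (q.1.1 : G) * (x * (q.1.2 : G)) * (d₀⁻¹ * (q.1.1 : G))⁻¹ := by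
            calc x * v₀ = d₀⁻¹ * (d₀ * (x * v₀) * d₀⁻¹) * d₀ := by group
              _ = d₀⁻¹ * ((q.1.1 : G) * (x * (q.1.2 : G)) * (q.1.1 : G)⁻¹) * d₀ := by rw [e1]
              _ = _ := by group
          have hpw : ∀ v : G, v ∈ N → Commute x v → (x * v) ^ Nat.card N = x ^ Nat.card N :=
            fun v hv hxv => by
              rw [hxv.mul_pow, orderOf_dvd_iff_pow_eq_one.1 (Subgroup.orderOf_dvd_natCard N hv), mul_one]
          have e3 := congrArg (· ^ Nat.card N) e2
          simp only [conj_pow, hpw v₀ hv₀ hcv,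
            hpw _ (Subgroup.mem_inf.1 q.1.2.2).1 (hc q.1.2)] at e3
          obtain ⟨k, hk⟩ := hxp
          obtain ⟨t, ht⟩ := exists_pow_eq_self_of_coprime (x := x) (n := Nat.card N) (by
            rw [hk]
            exact Nat.Coprime.pow_right _
              ((Nat.Prime.coprime_iff_not_dvd (Fact.out : p.Prime)).2 hN).symm)
          have e4 := congrArg (· ^ t) e3
          simp only [conj_pow, ht] at e4
          conv_rhs => rw [e4]
          group
        set w := d₀⁻¹ * (q.1.1 : G) with hw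
        refine mul_left_cancel (a := x) ?_
        calc x * (w⁻¹ * v₀ * w) = w⁻¹ * (w * x) * w⁻¹ * v₀ * w := by group
          _ = w⁻¹ * (x * w) * w⁻¹ * v₀ * w := by rw [hwC]
          _ = w⁻¹ * (x * v₀) * w := by group
          _ = w⁻¹ * (d₀⁻¹ * (d₀ * (x * v₀) * d₀⁻¹) * d₀) * w := by group
          _ = x * (q.1.2 : G) := by rw [e1, hw]; group
  have h1 : ∑ q : N × Nx, F (x * (f q : G)) = (Nat.card Nx : ℂ) * ∑ n : N, F (x * n) := by
    rw [← Finset.sum_fiberwise (s := Finset.univ) (g := f), Finset.mul_sum]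
    refine Finset.sum_congr rfl fun n _ => ?_
    rw [Finset.sum_congr rfl fun q hq => by rw [(Finset.mem_filter.1 hq).2], Finset.sum_const, hfib,
      nsmul_eq_mul]
  rw [← h1, Fintype.sum_prod_type]
  simp only [hval, fun (d : N) (v : Nx) => hF (x * (v : G)) (d : G)]
  rw [Finset.sum_const, Finset.card_univ, ← Nat.card_eq_fintype_card, nsmul_eq_mul]

end CfsgLib.Blocks.DihedralBlock
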