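import Cfsg.Agent.Lib.Blocks.DihedralBlock.Rotation
import Cfsg.Agent.Lib.Blocks.DihedralBlock.Section
import Cfsg.Agent.Lib.Blocks.Orthogonality

/-!
# The characters induced from the rotations and the values on them
-/

set_option autoImplicit false
set_option linter.unusedSectionVars false

namespace CfsgLib.Blocks.DihedralBlock

open Cfsg CfsgLib CfsgLib.Char CfsgLib.Blocks.DihedralFormula
open scoped Classical ComplexConjugate

theorem geom_root {n : ℕ} {z : ℂ} (hz : z ^ n = 1) :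
    ∑ k ∈ Finset.range n, z ^ k = if z = 1 then (n : ℂ) else 0 := by
  split_ifs with h
  · simp [h]
  · rw [geom_sum_eq h, hz, sub_self, zero_div]

variable {G : Type*} [Group G] [Fintype G] {P : Sylow 2 G} {σ τ : G} {q : ℕ} {ζ : ℂ}
  {K : Subgroup G} {l : K →* ℂˣ} {N : Subgroup G} (h : Rot P σ τ q ζ K l N)
include h

omit [Fintype G] in
theorem exists_pow [Finite G] : ∃ e, 2 * q = 2 ^ e := by
  obtain ⟨e, rfl⟩ := h.pow_two'
  exact ⟨e + 1, (pow_succ' 2 e).symm⟩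

theorem orderOf_lσ : orderOf (l ⟨σ, h.σK.1⟩) = 2 * q := by
  rw [← orderOf_units, h.σK.2]; exact h.prim.eq_orderOf.symm

omit [Fintype G] in
theorem l_pow_eq_one [Finite G] (k : K) : l k ^ (2 * q) = 1 := by
  obtain ⟨i, -, hi⟩ := h.range k
  refine Units.ext ?_
  rw [Units.val_pow_eq_pow_val, hi, ← pow_mul, mul_comm i, pow_mul, h.prim.pow_eq_one, one_pow,
    Units.val_one]

omit [Fintype G] in
theorem l_eq_one_of_odd [Finite G] {k : K} (hk : ¬ 2 ∣ orderOf (k : G)) : l k = 1 := by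
  obtain ⟨e, he⟩ := exists_pow h
  have h1 : orderOf (l k) ∣ 2 ^ e := he ▸ orderOf_dvd_of_pow_eq_one (l_pow_eq_one h k)
  have h2 : orderOf (l k) ∣ orderOf (k : G) := by
    rw [Subgroup.orderOf_coe]; exact orderOf_map_dvd l k
  exact orderOf_eq_one_iff.1 (Nat.eq_one_of_dvd_coprimes
    (((Nat.Prime.coprime_iff_not_dvd Nat.prime_two).2 hk).pow_left e) h1 h2)

theorem card_K : Nat.card K = 2 * q * Nat.card N := by
  have h1 : l.ker = N.subgroupOf K := by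
    ext k; rw [MonoidHom.mem_ker, h.ker, Subgroup.mem_subgroupOf]
  have h2 : Nat.card l.range = 2 * q := by
    rw [show l.range = Subgroup.zpowers (l ⟨σ, h.σK.1⟩) from ?_, Nat.card_zpowers, orderOf_lσ h]
    ext u
    constructor
    · rintro ⟨k, rfl⟩
      obtain ⟨i, -, hi⟩ := h.range k
      refine ⟨i, Units.ext ?_⟩
      show ((l ⟨σ, h.σK.1⟩ ^ (i : ℤ) : ℂˣ) : ℂ) = _
      rw [zpow_natCast, Units.val_pow_eq_pow_val, h.σK.2, hi]
    · rintro ⟨i, rfl⟩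
      exact ⟨⟨σ, h.σK.1⟩ ^ i, map_zpow l _ i⟩
  rw [← l.ker.card_mul_index, Subgroup.index_ker, h2, h1,
    Nat.card_congr (Subgroup.subgroupOfEquivOfLe h.le).toEquiv, mul_comm]

theorem l_σ_pow {i : ℕ} (hm : σ ^ i ∈ K) : (l ⟨σ ^ i, hm⟩ : ℂ) = ζ ^ i := by
  rw [show (⟨σ ^ i, hm⟩ : K) = ⟨σ, h.σK.1⟩ ^ i from Subtype.ext (by simp), map_pow,
    Units.val_pow_eq_pow_val, h.σK.2]

theorem zeta_pow_ne_one {i : ℕ} (hi0 : 0 < i) (hi : i < 2 * q) : ζ ^ i ≠ 1 := fun e =>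
  absurd (Nat.le_of_dvd hi0 ((h.prim.pow_eq_one_iff_dvd i).1 e)) (by omega)

/-- The parametrization of `K`. -/
noncomputable def param : Fin (2 * q) × N → K := fun w =>
  ⟨σ ^ (w.1 : ℕ) * w.2, mul_mem (Subgroup.pow_mem _ h.σK.1 _) (h.le w.2.2)⟩

theorem l_param (w : Fin (2 * q) × N) : (l (param h w) : ℂ) = ζ ^ (w.1 : ℕ) := by
  rw [show param h w = ⟨σ ^ (w.1 : ℕ), Subgroup.pow_mem _ h.σK.1 _⟩ * ⟨w.2, h.le w.2.2⟩ from rfl,
    map_mul, (h.ker ⟨w.2, h.le w.2.2⟩).2 w.2.2, mul_one, l_σ_pow h]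

theorem param_bijective : Function.Bijective (param h) := by
  refine (Nat.bijective_iff_injective_and_card _).2 ⟨fun a b e => ?_, ?_⟩
  · have h1 := congrArg (fun k => (l k : ℂ)) e
    simp only [l_param h] at h1
    have h2 : a.1 = b.1 := Fin.ext (h.prim.pow_inj a.1.2 b.1.2 h1)
    have h3 := congrArg Subtype.val e
    simp only [param, h2] at h3
    exact Prod.ext h2 (Subtype.ext (mul_left_cancel h3))
  · rw [Nat.card_prod, Nat.card_fin, card_K h]

theorem sum_K (F : K → ℂ) :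
    ∑ k : K, F k = ∑ i : Fin (2 * q), ∑ n : N, F (param h (i, n)) := by
  rw [← (param_bijective h).sum_comp F, Fintype.sum_prod_type]

theorem pow_mem_C (i : ℕ) : σ ^ i ∈ Subgroup.centralizer ({σ ^ q} : Set G) :=
  h.le_C (Subgroup.pow_mem _ h.memσ i)

theorem centralizer_le {i : ℕ} (hi0 : 0 < i) (hi : i < 2 * q) :
    Subgroup.centralizer ({σ ^ i} : Set G) ≤ Subgroup.centralizer ({σ ^ q} : Set G) := by
  intro x hx
  have hk : σ ^ i ∈ K := Subgroup.pow_mem _ h.σK.1 i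
  have hne : l ⟨σ ^ i, hk⟩ ≠ 1 := fun e => zeta_pow_ne_one h hi0 hi (by
    rw [← l_σ_pow h hk, e, Units.val_one])
  have e : x * σ ^ i * x⁻¹ = σ ^ i := by
    rw [Subgroup.mem_centralizer_singleton_iff.1 hx, mul_inv_cancel_right]
  have hk' : x * σ ^ i * x⁻¹ ∈ K := by rw [e]; exact hk
  exact h.data.ctrl ⟨σ ^ i, hk⟩ x hk' hne (by
    rw [show (⟨x * σ ^ i * x⁻¹, hk'⟩ : K) = ⟨σ ^ i, hk⟩ from Subtype.ext e]; exact hne)

theorem isPow_σ (i : ℕ) : ∃ k, orderOf (σ ^ i) = 2 ^ k := by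
  obtain ⟨e, he⟩ := exists_pow h
  obtain ⟨k, -, hk⟩ := (Nat.dvd_prime_pow Nat.prime_two).1
    (show orderOf (σ ^ i) ∣ 2 ^ e by rw [← he, ← h.ord]; exact orderOf_pow_dvd i)
  exact ⟨k, hk⟩

/-- The coset `σ ^ i N` is conjugate into the section of `σ ^ i`. -/
theorem exists_conj {i : ℕ} (hi : i < 2 * q) {n : G} (hn : n ∈ N) :
    ∃ d ∈ N, ∃ v ∈ N, Commute (σ ^ i) v ∧ d * (σ ^ i * v) * d⁻¹ = σ ^ i * n := by
  have : Fact (Nat.Prime 2) := ⟨Nat.prime_two⟩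
  obtain ⟨e, he⟩ := exists_pow h
  set k : K := ⟨σ ^ i * n, mul_mem (Subgroup.pow_mem _ h.σK.1 i) (h.le hn)⟩ with hk
  obtain ⟨u, hu⟩ := exists_pPart Nat.prime_two k
  obtain ⟨y, hy, hcomm, ⟨a, ha⟩, hyo⟩ := hu
  have hly : l y = 1 := l_eq_one_of_odd h (by rw [Subgroup.orderOf_coe]; exact hyo)
  have hlu : (l u : ℂ) = ζ ^ i := by
    rw [← mul_one (l u), ← hly, ← map_mul, hy, hk,
      show (⟨σ ^ i * n, _⟩ : K) = ⟨σ ^ i, Subgroup.pow_mem _ h.σK.1 i⟩ * ⟨n, h.le hn⟩ from rfl,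
      map_mul, (h.ker ⟨n, h.le hn⟩).2 hn, mul_one, l_σ_pow h]
  let S : Sylow 2 K := Sylow.ofCard (Subgroup.zpowers ⟨σ, h.σK.1⟩) (by
    rw [Nat.card_zpowers, Subgroup.orderOf_mk, h.ord, card_K h, he, Nat.factorization_mul
      (pow_ne_zero _ two_ne_zero) Nat.card_pos.ne', Finsupp.add_apply,
      Nat.Prime.factorization_pow Nat.prime_two, Finsupp.single_eq_same,
      Nat.factorization_eq_zero_of_not_dvd h.odd, add_zero])
  obtain ⟨Q, hQ⟩ := (IsPGroup.of_card (n := a) (by rw [Nat.card_zpowers, ha]) :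
    IsPGroup 2 (Subgroup.zpowers u)).exists_le_sylow
  obtain ⟨c, hc⟩ := MulAction.exists_smul_eq K Q S
  have hcS : c * u * c⁻¹ ∈ (S : Subgroup K) := by
    rw [← hc, Sylow.coe_subgroup_smul]
    exact ⟨u, hQ (Subgroup.mem_zpowers u), by simp⟩
  obtain ⟨j, hj⟩ := (mem_powers_iff_mem_zpowers.2 hcS :
    c * u * c⁻¹ ∈ Submonoid.powers (⟨σ, h.σK.1⟩ : K))
  have hjG : (c : G) * u * (c : G)⁻¹ = σ ^ j := by
    have := congrArg Subtype.val hj
    simpa using this.symm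
  have hji : σ ^ j = σ ^ i := by
    have h1 : (l ⟨σ, h.σK.1⟩) ^ j = l u := by
      rw [← map_pow]
      show l ((fun x => (⟨σ, h.σK.1⟩ : K) ^ x) j) = _
      rw [hj, map_mul, map_mul, map_inv, mul_inv_cancel_comm]
    have h2 : (l ⟨σ, h.σK.1⟩) ^ j = (l ⟨σ, h.σK.1⟩) ^ i := Units.ext (by
      rw [h1, hlu, Units.val_pow_eq_pow_val, h.σK.2])
    rw [pow_eq_pow_iff_modEq, orderOf_lσ h] at h2
    rw [pow_eq_pow_iff_modEq, h.ord]
    exact h2
  -- write `c` as a power of `σ` times an element of `N`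
  obtain ⟨⟨b, w⟩, hbw⟩ := (param_bijective h).2 c
  have hcG : (c : G) = σ ^ (b : ℕ) * (w : G) := by rw [← hbw]; rfl
  have hwu : (w : G) * u * (w : G)⁻¹ = σ ^ i := by
    rw [hcG, hji] at hjG
    calc (w : G) * u * (w : G)⁻¹
        = (σ ^ (b : ℕ))⁻¹ * (σ ^ (b : ℕ) * w * u * (σ ^ (b : ℕ) * w)⁻¹) * σ ^ (b : ℕ) := by group
      _ = (σ ^ (b : ℕ))⁻¹ * σ ^ i * σ ^ (b : ℕ) := by rw [hjG]
      _ = σ ^ i := by group
  refine ⟨(w : G)⁻¹, inv_mem w.2, (w : G) * y * (w : G)⁻¹,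
    mul_mem (mul_mem w.2 ((h.ker y).1 hly)) (inv_mem w.2), ?_, ?_⟩
  · rw [← hwu]
    have hc' : (u : G) * y = y * u := congrArg Subtype.val hcomm.eq
    show (w : G) * u * (w : G)⁻¹ * ((w : G) * y * (w : G)⁻¹) =
      (w : G) * y * (w : G)⁻¹ * ((w : G) * u * (w : G)⁻¹)
    calc (w : G) * u * (w : G)⁻¹ * ((w : G) * y * (w : G)⁻¹) = (w : G) * (u * y) * (w : G)⁻¹ := by group
      _ = (w : G) * (y * u) * (w : G)⁻¹ := by rw [hc']
      _ = _ := by group
  · rw [show σ ^ i * n = ((k : K) : G) from rfl, ← hy, Subgroup.coe_mul, ← hwu]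
    group

theorem exists_complement {i : ℕ} (hi0 : 0 < i) (hi : i < 2 * q) :
    ∃ (M' : Subgroup (Subgroup.centralizer ({σ ^ i} : Set G))) (_ : M'.Normal) (k : ℕ),
      ¬ 2 ∣ Nat.card M' ∧ M'.index = 2 ^ k ∧ ∀ x, x ∈ M' ↔ (x : G) ∈ N := by
  set C := Subgroup.centralizer ({σ ^ q} : Set G) with hC
  have hle := centralizer_le h hi0 hi
  have hNC : N ≤ C := h.le.trans h.data.le
  have : (N.subgroupOf C).Normal := ⟨fun n hn c => by
    rw [Subgroup.mem_subgroupOf] at hn ⊢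
    exact h.normal c c.2 _ hn⟩
  obtain ⟨e, he⟩ := exists_pow h
  have hidx : (N.subgroupOf C).index = 2 ^ (e + 1) := by
    have h1 := (N.subgroupOf C).card_mul_index
    rw [Nat.card_congr (Subgroup.subgroupOfEquivOfLe hNC).toEquiv, hC, h.data.card, card_K h, he,
      ← mul_assoc, ← pow_succ', mul_comm (2 ^ (e + 1)) (Nat.card N)] at h1
    exact Nat.eq_of_mul_eq_mul_left Nat.card_pos h1
  set M' := N.subgroupOf (Subgroup.centralizer ({σ ^ i} : Set G)) with hM'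
  have hdvd : M'.index ∣ 2 ^ (e + 1) := by
    rw [← hidx]
    have h1 := Subgroup.relIndex_dvd_index_of_normal (N.subgroupOf C)
      ((Subgroup.centralizer ({σ ^ i} : Set G)).subgroupOf C)
    rwa [Subgroup.relIndex_subgroupOf hle] at h1
  obtain ⟨k, -, hk⟩ := (Nat.dvd_prime_pow Nat.prime_two).1 hdvd
  refine ⟨M', ⟨fun n hn c => ?_⟩, k, fun hd => h.odd (hd.trans ?_), hk, fun x => Iff.rfl⟩
  · rw [hM', Subgroup.mem_subgroupOf] at hn ⊢
    exact h.normal c (hle c.2) _ hn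
  · exact Subgroup.card_comap_dvd_of_injective _ _ (Subgroup.subtype_injective _)

variable {M : Ideal AlgInt} [M.IsPrime] (hM : IsPModular 2 M)

include hM in
theorem apply_coset {χ : IrrCharacter G} (hχ : χ ∈ principalBlock M G) {i : ℕ} (hi0 : 0 < i)
    (hi : i < 2 * q) {n : G} (hn : n ∈ N) : (χ : G → ℂ) (σ ^ i * n) = (χ : G → ℂ) (σ ^ i) := by
  have : Fact (Nat.Prime 2) := ⟨Nat.prime_two⟩
  obtain ⟨d, -, v, hv, hcv, he⟩ := exists_conj h hi hn
  obtain ⟨M', hM'n, k, hodd, -, hmem⟩ := exists_complement h hi0 hi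
  rw [← he, IsIrr.isClassFunction χ.2]
  exact Blocks.apply_mul_eq_of_mem_principalBlock (x := σ ^ i) hM (isPow_σ h i) hχ hodd
    (v := ⟨v, Subgroup.mem_centralizer_singleton_iff.2 hcv.eq.symm⟩) ((hmem _).2 hv)

include hM in
theorem sum_coset_eq_zero {χ : IrrCharacter G} (hχ : χ ∉ principalBlock M G) {i : ℕ} (hi0 : 0 < i)
    (hi : i < 2 * q) : ∑ n : N, (χ : G → ℂ) (σ ^ i * n) = 0 := by
  have : Fact (Nat.Prime 2) := ⟨Nat.prime_two⟩
  obtain ⟨M', hM'n, k, hodd, hidx, hmem⟩ := exists_complement h hi0 hi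
  have h1 := sum_section_eq_zero hM (isPow_σ h i) hodd hidx hχ
  have h2 := coset_sum (p := 2) (x := σ ^ i) (isPow_σ h i) (N := N) h.odd
    (fun n hn => by
      have := h.normal _ (inv_mem (pow_mem_C h i)) n hn
      rwa [inv_inv] at this)
    (fun n hn => exists_conj h hi hn) (IsIrr.isClassFunction χ.2)
  have h3 : ∑ v : ↥(N ⊓ Subgroup.centralizer ({σ ^ i} : Set G)), (χ : G → ℂ) (σ ^ i * v) = 0 := by
    rw [← h1]
    exact Fintype.sum_equiv
      { toFun := fun v => ⟨⟨(v : G), (Subgroup.mem_inf.1 v.2).2⟩,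
          (hmem _).2 (Subgroup.mem_inf.1 v.2).1⟩
        invFun := fun y => ⟨((y : Subgroup.centralizer ({σ ^ i} : Set G)) : G),
          Subgroup.mem_inf.2 ⟨(hmem _).1 y.2, (y : Subgroup.centralizer ({σ ^ i} : Set G)).2⟩⟩
        left_inv := fun _ => rfl
        right_inv := fun _ => rfl } _ _ fun v => rfl
  rw [h3, mul_zero] at h2
  exact (mul_eq_zero.1 h2).resolve_left (Nat.cast_ne_zero.2 Nat.card_pos.ne')

/-- The coefficient of `χ` at `j` computed from its values on the powers of `σ`. -/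
noncomputable def coefA (σ : G) (q : ℕ) (ζ : ℂ) (χ : G → ℂ) (j : ℕ) : ℂ :=
  ((2 * q : ℕ) : ℂ)⁻¹ * ∑ i ∈ Finset.range (2 * q), (1 - ζ ^ (i * j)) * χ (σ ^ i)

theorem conj_apply_pow (χ : IrrCharacter G) (i : ℕ) :
    conj ((χ : G → ℂ) (σ ^ i)) = (χ : G → ℂ) (σ ^ i) := by
  rw [← IsIrr.map_inv χ.2, show (σ ^ i)⁻¹ = τ * σ ^ i * τ⁻¹ by rw [← conj_pow, h.rel, inv_pow],
    IsIrr.isClassFunction χ.2]

include hM in
theorem classInner_phi (χ : IrrCharacter G) (j : ℕ) :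
    classInner (Phi (l ^ j)) (χ : G → ℂ) =
      if χ ∈ principalBlock M G then coefA σ q ζ (χ : G → ℂ) j else 0 := by
  rw [Phi, frobenius_reciprocity K _ (IsIrr.isClassFunction χ.2), classInner, sum_K h, card_K h]
  have hterm : ∀ i : Fin (2 * q), ∀ n : N, base (l ^ j) (param h (i, n)) *
      conj ((χ : G → ℂ) ((param h (i, n) : K) : G)) =
      (1 - ζ ^ ((i : ℕ) * j)) * conj ((χ : G → ℂ) (σ ^ (i : ℕ) * n)) := fun i n => by
    rw [base, MonoidHom.pow_apply, Units.val_pow_eq_pow_val, l_param h, ← pow_mul]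
    rfl
  simp only [hterm, ← Finset.mul_sum, ← map_sum]
  split_ifs with hχ
  · rw [coefA, Nat.cast_mul, mul_inv, mul_assoc, Finset.mul_sum (a := (Nat.card N : ℂ)⁻¹),
      ← Fin.sum_univ_eq_sum_range (fun i => (1 - ζ ^ (i * j)) * (χ : G → ℂ) (σ ^ i))]
    congr 1
    refine Finset.sum_congr rfl fun i _ => ?_
    rcases Nat.eq_zero_or_pos (i : ℕ) with h0 | h0
    · rw [h0, zero_mul, pow_zero, sub_self, zero_mul, zero_mul, mul_zero]
    · rw [Finset.sum_congr rfl fun (n : N) _ => apply_coset h hM hχ h0 i.2 n.2, Finset.sum_const,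
        Finset.card_univ, ← Nat.card_eq_fintype_card, nsmul_eq_mul, map_mul, map_natCast,
        conj_apply_pow h]
      have : (Nat.card N : ℂ) ≠ 0 := Nat.cast_ne_zero.2 Nat.card_pos.ne'
      field_simp
  · rw [Finset.sum_eq_zero fun (i : Fin (2 * q)) _ => ?_, mul_zero]
    rcases Nat.eq_zero_or_pos (i : ℕ) with h0 | h0
    · rw [h0, zero_mul, pow_zero, sub_self, zero_mul]
    · rw [sum_coset_eq_zero h hM hχ h0 i.2, map_zero, mul_zero]

/-- The values are recovered from the coefficients. -/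
theorem apply_eq_neg_sum (χ : G → ℂ) {i : ℕ} (hi0 : 0 < i) (hi : i < 2 * q) :
    χ (σ ^ i) = -∑ j ∈ Finset.range (2 * q), coefA σ q ζ χ j * (ζ⁻¹) ^ (i * j) := by
  simp only [coefA, Finset.mul_sum, Finset.sum_mul]
  rw [Finset.sum_comm]
  have hin : ∀ t ∈ Finset.range (2 * q), ∑ j ∈ Finset.range (2 * q),
      ((2 * q : ℕ) : ℂ)⁻¹ * ((1 - ζ ^ (t * j)) * χ (σ ^ t)) * ζ⁻¹ ^ (i * j) =
      if t = i then -χ (σ ^ i) else 0 := by
    intro t ht
    have hr : ∀ j, ((2 * q : ℕ) : ℂ)⁻¹ * ((1 - ζ ^ (t * j)) * χ (σ ^ t)) * ζ⁻¹ ^ (i * j) =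
        ((2 * q : ℕ) : ℂ)⁻¹ * χ (σ ^ t) * ((ζ⁻¹ ^ i) ^ j - (ζ ^ t * ζ⁻¹ ^ i) ^ j) := fun j => by
      rw [mul_pow, ← pow_mul, ← pow_mul]; ring
    have hζ0 : ζ ≠ 0 := h.prim.ne_zero (by have := h.two_le; omega)
    have e1 : (ζ⁻¹ ^ i) ^ (2 * q) = 1 := by
      rw [← pow_mul, mul_comm, pow_mul, inv_pow, h.prim.pow_eq_one, inv_one, one_pow]
    have e2 : (ζ ^ t * ζ⁻¹ ^ i) ^ (2 * q) = 1 := by
      rw [mul_pow, e1, mul_one, ← pow_mul, mul_comm, pow_mul, h.prim.pow_eq_one, one_pow]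
    rw [Finset.sum_congr rfl fun j _ => hr j, ← Finset.mul_sum, Finset.sum_sub_distrib,
      geom_root e1, geom_root e2, if_neg (by
        rw [inv_pow, inv_eq_one]; exact zeta_pow_ne_one h hi0 hi)]
    by_cases hti : t = i
    · subst hti
      rw [if_pos (by rw [inv_pow, mul_inv_cancel₀ (pow_ne_zero _ hζ0)]), if_pos rfl]
      have : ((2 * q : ℕ) : ℂ) ≠ 0 := Nat.cast_ne_zero.2 (by have := h.two_le; omega)
      field_simp
      ring
    · rw [if_neg fun e => hti (h.prim.pow_inj (Finset.mem_range.1 ht) hi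
        (by rwa [inv_pow, mul_inv_eq_one₀ (pow_ne_zero _ hζ0)] at e)), if_neg hti, sub_zero, mul_zero]
  rw [Finset.sum_congr rfl hin, Finset.sum_ite_eq' (Finset.range (2 * q)) i,
    if_pos (Finset.mem_range.2 hi), neg_neg]

theorem phi_pow_apply {k : K} (hk : l k ≠ 1) (j : ℕ) :
    Phi (l ^ j) (k : G) = 2 - (l k : ℂ) ^ j - ((l k : ℂ) ^ j)⁻¹ := by
  set C := Subgroup.centralizer ({σ ^ q} : Set G)
  have hD := h.data
  have hterm : ∀ x : G, extendByZero K (base (l ^ j)) (x⁻¹ * k * x) =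
      (if x ∈ K then 1 - (l k : ℂ) ^ j else 0) +
        if x ∈ C ∧ x ∉ K then 1 - ((l k : ℂ) ^ j)⁻¹ else 0 := by
    intro x
    by_cases hxK : x ∈ K
    · have hm : x⁻¹ * k * x ∈ K := mul_mem (mul_mem (inv_mem hxK) k.2) hxK
      rw [extendByZero_of_mem _ _ hm, if_pos hxK, if_neg fun hh => hh.2 hxK, add_zero, base,
        show (⟨_, hm⟩ : K) = ⟨x, hxK⟩⁻¹ * k * ⟨x, hxK⟩ from rfl, map_mul, map_mul, map_inv,
        inv_mul_cancel_comm, MonoidHom.pow_apply, Units.val_pow_eq_pow_val]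
    rw [if_neg hxK, zero_add]
    by_cases hxC : x ∈ C
    · obtain ⟨hm, hl⟩ := hD.invert x⁻¹ (inv_mem hxC) (fun hx => hxK (inv_mem_iff.1 hx)) k
      have e : x⁻¹ * (k : G) * x = x⁻¹ * k * x⁻¹⁻¹ := by rw [inv_inv]
      rw [e, extendByZero_of_mem _ _ hm, if_pos ⟨hxC, hxK⟩, base, MonoidHom.pow_apply, hl, inv_pow,
        Units.val_inv_eq_inv_val, Units.val_pow_eq_pow_val]
    · rw [if_neg fun hh => hxC hh.1]
      by_cases hm : x⁻¹ * k * x⁻¹⁻¹ ∈ K
      · have e : x⁻¹ * (k : G) * x = x⁻¹ * k * x⁻¹⁻¹ := by rw [inv_inv]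
        rw [e, extendByZero_of_mem _ _ hm, base]
        by_contra hne
        refine hxC (inv_mem_iff.1 (hD.ctrl k x⁻¹ hm hk fun e1 => hne ?_))
        rw [MonoidHom.pow_apply, e1, one_pow, Units.val_one, sub_self]
      · rw [inv_inv] at hm
        exact extendByZero_of_notMem _ _ hm
  have hK : (Finset.univ.filter (· ∈ K)).card = Nat.card K := by
    rw [Nat.card_eq_fintype_card, Fintype.card_subtype]
  have hC : (Finset.univ.filter fun x => x ∈ C ∧ x ∉ K).card = Nat.card K := by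
    have h1 : (Finset.univ.filter (· ∈ C)).card = 2 * Nat.card K := by
      rw [← hD.card, Nat.card_eq_fintype_card, Fintype.card_subtype]
    have h2 : Finset.univ.filter (fun x => x ∈ C ∧ x ∉ K) =
        Finset.univ.filter (· ∈ C) \ Finset.univ.filter (· ∈ K) := by
      ext x; simp
    rw [h2, Finset.card_sdiff_of_subset (fun x hx => by
      simp only [Finset.mem_filter, Finset.mem_univ, true_and] at hx ⊢
      exact hD.le hx), h1, hK]
    omega
  rw [Phi, indFun, Finset.sum_congr rfl fun x _ => hterm x, Finset.sum_add_distrib,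
    ← Finset.sum_filter, ← Finset.sum_filter, Finset.sum_const, Finset.sum_const, hK, hC,
    nsmul_eq_mul, nsmul_eq_mul, ← mul_add, ← mul_assoc,
    inv_mul_cancel₀ (Nat.cast_ne_zero.2 Nat.card_pos.ne'), one_mul]
  ring

theorem sum_pow (a : ℤ) (ha : ¬ ((2 * q : ℕ) : ℤ) ∣ a) : ∑ k : K, (l k : ℂ) ^ a = 0 := by
  have e := sum_hom_eq_zero (l ^ a) (s := ⟨σ, h.σK.1⟩) (fun e => ha ?_)
  · simpa using e
  · rw [MonoidHom.zpow_apply, ← orderOf_dvd_iff_zpow_eq_one, orderOf_lσ h] at e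
    exact e

/-- The inner products of the induced generalized characters. -/
theorem classInner_phi_phi {i j : ℕ} (hi0 : 0 < i) (hi : i ≤ q) (hj0 : 0 < j) (hj : j ≤ q) :
    classInner (Phi (l ^ i)) (Phi (l ^ j)) =
      2 + (if i = j then 1 else 0) + if i + j = 2 * q then 1 else 0 := by
  simp only [Phi]
  rw [frobenius_reciprocity K _ (isClassFunction_indFun K (base (l ^ j))), classInner]
  have hterm : ∀ k : K, base (l ^ i) k * conj (indFun K (base (l ^ j)) (k : G)) =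
      2 - 2 * (l k : ℂ) ^ (i : ℤ) - (l k : ℂ) ^ (j : ℤ) - (l k : ℂ) ^ (-(j : ℤ)) +
        (l k : ℂ) ^ ((i : ℤ) + j) + (l k : ℂ) ^ ((i : ℤ) - j) := by
    intro k
    have h0 : (l k : ℂ) ≠ 0 := Units.ne_zero _
    rw [zpow_add₀ h0, zpow_sub₀ h0, zpow_neg, zpow_natCast, zpow_natCast, base, MonoidHom.pow_apply,
      Units.val_pow_eq_pow_val]
    by_cases hk : l k = 1
    · rw [hk, Units.val_one]; simp only [one_pow, sub_self, zero_mul]; norm_num
    rw [show indFun K (base (l ^ j)) (k : G) = _ from phi_pow_apply h hk j, map_sub, map_sub,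
      map_inv₀, map_pow, DihedralFormula.conj_apply k, inv_pow, inv_inv, map_ofNat]
    field_simp
    ring
  rw [Finset.sum_congr rfl fun k _ => hterm k]
  simp only [Finset.sum_add_distrib, Finset.sum_sub_distrib, ← Finset.mul_sum]
  have hq2 := h.two_le
  have hnd : ∀ a : ℤ, a ≠ 0 → -((2 * q : ℕ) : ℤ) < a → a < ((2 * q : ℕ) : ℤ) →
      ¬ ((2 * q : ℕ) : ℤ) ∣ a := fun a h0 h1 h2 hd =>
    h0 (Int.eq_zero_of_abs_lt_dvd hd (abs_lt.2 ⟨h1, h2⟩))
  rw [sum_pow h i (hnd _ (by omega) (by omega) (by omega)),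
    sum_pow h j (hnd _ (by omega) (by omega) (by omega)),
    sum_pow h (-j) (hnd _ (by omega) (by omega) (by omega))]
  have hcast : ∀ (P' : Prop) [Decidable P'] (a : ℤ), (P' → ((2 * q : ℕ) : ℤ) ∣ a) →
      (¬ P' → ¬ ((2 * q : ℕ) : ℤ) ∣ a) → ∑ k : K, (l k : ℂ) ^ a =
        (Nat.card K : ℂ) * if P' then 1 else 0 := by
    intro P' _ a h1 h2
    split_ifs with hP'
    · obtain ⟨b, rfl⟩ := h1 hP'
      rw [Finset.sum_congr rfl fun k _ => show (l k : ℂ) ^ (((2 * q : ℕ) : ℤ) * b) = 1 by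
        rw [zpow_mul, zpow_natCast, ← Units.val_pow_eq_pow_val, l_pow_eq_one h, Units.val_one, one_zpow],
        Finset.sum_const, Finset.card_univ, ← Nat.card_eq_fintype_card, nsmul_eq_mul]
    · rw [sum_pow h a (h2 hP'), mul_zero]
  rw [hcast (i + j = 2 * q) _ (fun e => ⟨1, by omega⟩) (fun e hd => e ?_),
    hcast (i = j) _ (fun e => ⟨0, by omega⟩) (fun e => hnd _ (by omega) (by omega) (by omega)),
    Finset.sum_const, Finset.card_univ, ← Nat.card_eq_fintype_card, nsmul_eq_mul]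
  · have : (Nat.card K : ℂ) ≠ 0 := Nat.cast_ne_zero.2 Nat.card_pos.ne'
    field_simp
    ring
  · have := Int.le_of_dvd (by omega) hd
    omega

theorem phi_pow_one (j : ℕ) : Phi (l ^ j) (1 : G) = 0 := by
  rw [Phi, indFun_apply_one, base, map_one, Units.val_one, sub_self, mul_zero]

theorem phi_odd {g : G} (hg : ¬ 2 ∣ orderOf g) (j : ℕ) : Phi (l ^ j) g = 0 := by
  rw [Phi, indFun, Finset.sum_eq_zero, mul_zero]
  intro x _
  by_cases hm : x⁻¹ * g * x ∈ K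
  · have ho : orderOf (x⁻¹ * g * x) = orderOf g := by
      rw [show x⁻¹ * g * x = MulAut.conj x⁻¹ g by simp, MulEquiv.orderOf_eq]
    rw [extendByZero_of_mem _ _ hm, base, MonoidHom.pow_apply,
      l_eq_one_of_odd h (k := ⟨_, hm⟩) (by rw [ho]; exact hg), one_pow, Units.val_one, sub_self]
  · exact extendByZero_of_notMem _ _ hm

theorem classInner_phi_triv {j : ℕ} (hj0 : 0 < j) (hj : j < 2 * q) :
    classInner (Phi (l ^ j)) ((trivChar G : IrrCharacter G) : G → ℂ) = 1 := by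
  rw [Phi, frobenius_reciprocity K _ (IsIrr.isClassFunction (trivChar G).2), classInner]
  simp only [trivChar_apply, map_one, mul_one, base, Finset.sum_sub_distrib]
  rw [sum_hom_eq_zero (l ^ j) (s := ⟨σ, h.σK.1⟩), sub_zero, Finset.sum_const, Finset.card_univ,
    ← Nat.card_eq_fintype_card, nsmul_eq_mul, mul_one,
    inv_mul_cancel₀ (Nat.cast_ne_zero.2 Nat.card_pos.ne')]
  intro e
  refine zeta_pow_ne_one h hj0 hj ?_
  rw [← h.σK.2, ← Units.val_pow_eq_pow_val, show l ⟨σ, h.σK.1⟩ ^ j = 1 from e, Units.val_one]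

theorem isGen_phi_pow (j : ℕ) : IsGeneralizedCharacter G (Phi (l ^ j)) :=
  IsGen.indFun (IsGen.sub (IsGen.of_isCharacter isCharacter_one)
    (IsGen.of_irr (isIrrCharacter_linear (l ^ j))))

theorem phi_symm {j : ℕ} (hj : j ≤ 2 * q) : Phi (l ^ (2 * q - j)) = Phi (l ^ j) := by
  funext g
  simp only [Phi, indFun]
  congr 1
  have hτC : τ ∈ Subgroup.centralizer ({σ ^ q} : Set G) := h.le_C h.memτ
  have hτK : τ ∉ K := fun hh => by
    have h1 := h.rel
    have e1 : (⟨σ, h.σK.1⟩ : K)⁻¹ = ⟨τ, hh⟩ * ⟨σ, h.σK.1⟩ * ⟨τ, hh⟩⁻¹ :=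
      Subtype.ext (by simpa using h1.symm)
    have e : (l ⟨σ, h.σK.1⟩)⁻¹ = (l ⟨σ, h.σK.1⟩) := by
      rw [← map_inv, e1, map_mul, map_mul, map_inv, mul_inv_cancel_comm]
    have h2 : (l ⟨σ, h.σK.1⟩) ^ 2 = 1 := by rw [pow_two]; nth_rw 1 [← e]; exact inv_mul_cancel _
    have := Nat.le_of_dvd two_pos (orderOf_dvd_of_pow_eq_one h2)
    rw [orderOf_lσ h] at this
    have := h.two_le
    omega
  refine Fintype.sum_equiv (Equiv.mulRight τ) _ _ fun x => ?_
  show _ = extendByZero K (base (l ^ j)) ((x * τ)⁻¹ * g * (x * τ))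
  have e : (x * τ)⁻¹ * g * (x * τ) = τ⁻¹ * (x⁻¹ * g * x) * τ⁻¹⁻¹ := by group
  rw [e]
  by_cases hm : x⁻¹ * g * x ∈ K
  · obtain ⟨hm', hl⟩ := h.data.invert τ⁻¹ (inv_mem hτC) (fun hh => hτK (inv_mem_iff.1 hh)) ⟨_, hm⟩
    rw [extendByZero_of_mem _ _ hm, extendByZero_of_mem _ _ hm', base, base, MonoidHom.pow_apply,
      MonoidHom.pow_apply, hl, inv_pow]
    congr 2
    refine eq_inv_of_mul_eq_one_left ?_
    rw [← pow_add, Nat.sub_add_cancel hj, l_pow_eq_one h]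
  · rw [extendByZero_of_notMem _ _ hm, extendByZero_of_notMem]
    intro hm'
    obtain ⟨hm'', -⟩ := h.data.invert τ hτC hτK ⟨_, hm'⟩
    refine hm ?_
    have : τ * (τ⁻¹ * (x⁻¹ * g * x) * τ⁻¹⁻¹) * τ⁻¹ = x⁻¹ * g * x := by group
    rwa [this] at hm''

end CfsgLib.Blocks.DihedralBlock
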